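import Groth.Agent.Lib.HLV27.Connect
import Groth.Agent.Lib.LocCoh.ConnDim27

/-!
# Grothendieck's connectedness theorem
-/

set_option autoImplicit false
universe u

open CategoryTheory IsLocalRing PrimeSpectrum
open Groth.Agent.LocCohLib

noncomputable section

namespace Groth.Agent.HLV27

variable {R : Type u} [CommRing R] [IsLocalRing R] [IsNoetherianRing R]

omit [IsLocalRing R] [IsNoetherianRing R] in
theorem dim_closed {Z : Set (PrimeSpectrum R)} (hZ : IsClosed Z) :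
    topologicalKrullDim Z = ringKrullDim (R ⧸ vanishingIdeal Z) := by
  rw [← dim_zeroLocus, zeroLocus_vanishingIdeal_eq_closure, hZ.closure_eq]

omit [IsLocalRing R] [IsNoetherianRing R] in
theorem subdim_le_of_minimalPrime {P : Ideal R} (hP : P ∈ minimalPrimes R) :
    LocCoh.subdim (PrimeSpectrum R) ≤ ringKrullDim (R ⧸ P) := by
  rw [← dim_zeroLocus]
  refine iInf₂_le _ ?_
  rw [← zeroLocus_minimalPrimes]
  exact ⟨P, hP, rfl⟩

omit [IsLocalRing R] [IsNoetherianRing R] in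
theorem exists_minimalPrime_le (r : PrimeSpectrum R) : ∃ P ∈ minimalPrimes R, P ≤ r.asIdeal := by
  obtain ⟨P, hP, hle⟩ := Ideal.exists_minimalPrimes_le (show (⊥ : Ideal R) ≤ r.asIdeal from bot_le)
  exact ⟨P, hP, hle⟩

omit [IsLocalRing R] [IsNoetherianRing R] in
theorem exists_minimalPrime_dim_gt {a : Ideal R} {d : ℕ} (h : (d : WithBot ℕ∞) < ringKrullDim (R ⧸ a)) :
    ∃ P ∈ minimalPrimes R, (d : WithBot ℕ∞) < ringKrullDim (R ⧸ (a ⊔ P)) := by
  rw [ringKrullDim_quotient] at h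
  obtain ⟨l, hl⟩ : ∃ l : LTSeries (zeroLocus (R := R) (a : Set R)), d < l.length := by
    by_contra! hc
    exact h.not_ge (iSup_le fun l => by exact_mod_cast hc l)
  obtain ⟨P, hP, hle⟩ := exists_minimalPrime_le (l.head.1)
  refine ⟨P, hP, ?_⟩
  rw [ringKrullDim_quotient]
  let l' : LTSeries (zeroLocus (R := R) ((a ⊔ P : Ideal R) : Set R)) :=
    ⟨l.length, fun j => ⟨(l j).1, sup_le (l j).2 (hle.trans (show l.head.1.asIdeal ≤ (l j).1.asIdeal from l.head_le j))⟩,
      fun j => l.step j⟩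
  exact lt_of_lt_of_le (by exact_mod_cast hl) (Order.LTSeries.length_le_krullDim l')

theorem le_maximalIdeal' {a : Ideal R} (ha : a ≠ ⊤) : a ≤ maximalIdeal R := le_maximalIdeal ha

/-- `min (c(R) + 1) (sdim R) ≤ dim R/(a+b) + cd (a ∩ b) + 1`. -/
theorem min_le_dim_add [IsAdicComplete (maximalIdeal R) R] (a b : Ideal R) (ha : a ≠ ⊤) (hb : b ≠ ⊤)
    (hab : ringKrullDim (R ⧸ (a ⊔ b)) < min (ringKrullDim (R ⧸ a)) (ringKrullDim (R ⧸ b))) (k : ℕ)
    (hk : LocCoh.CdLE R (a ⊓ b) k) :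
    min (LocCoh.connDim (PrimeSpectrum R) + 1) (LocCoh.subdim (PrimeSpectrum R)) ≤
      ringKrullDim (R ⧸ (a ⊔ b)) + (k : WithBot ℕ∞) + 1 := by
  have ham := le_maximalIdeal' ha
  have hbm := le_maximalIdeal' hb
  obtain ⟨d, hd⟩ := exists_dim_nat (sup_le ham hbm)
  rw [hd] at hab ⊢
  have hdP : ∀ P : Ideal R, ringKrullDim (R ⧸ (a ⊔ b ⊔ P)) ≤ d := fun P => (dim_quotient_anti le_sup_left).trans hd.le
  by_cases hcase : ∃ P ∈ minimalPrimes R, ringKrullDim (R ⧸ (a ⊔ b ⊔ P)) < ringKrullDim (R ⧸ (a ⊔ P)) ∧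
      ringKrullDim (R ⧸ (a ⊔ b ⊔ P)) < ringKrullDim (R ⧸ (b ⊔ P))
  · obtain ⟨P, hP, h1, h2⟩ := hcase
    haveI := hP.1.1
    obtain ⟨e, he⟩ := exists_dim_nat (sup_le (sup_le ham hbm) (le_maximalIdeal hP.1.1.ne_top))
    rw [he] at h1 h2
    refine (min_le_right _ _).trans ((subdim_le_of_minimalPrime hP).trans ?_)
    refine (dim_le_connected P e k a b ham hbm he h1 h2 hk).trans ?_
    have h3 := hdP P
    rw [he] at h3
    have : e ≤ d := by exact_mod_cast h3
    exact_mod_cast (show k + e + 1 ≤ d + k + 1 by omega)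
  push Not at hcase
  have hor : ∀ P ∈ minimalPrimes R, ringKrullDim (R ⧸ (a ⊔ P)) ≤ d ∨ ringKrullDim (R ⧸ (b ⊔ P)) ≤ d := fun P hP => by
    by_cases h : ringKrullDim (R ⧸ (a ⊔ b ⊔ P)) < ringKrullDim (R ⧸ (a ⊔ P))
    · exact Or.inr ((hcase P hP h).trans (hdP P))
    · exact Or.inl ((not_lt.1 h).trans (hdP P))
  let A : Set (Set (PrimeSpectrum R)) :=
    (fun P : Ideal R => zeroLocus (P : Set R)) '' {P | P ∈ minimalPrimes R ∧ ringKrullDim (R ⧸ (a ⊔ P)) ≤ d}
  let B : Set (Set (PrimeSpectrum R)) :=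
    (fun P : Ideal R => zeroLocus (P : Set R)) '' {P | P ∈ minimalPrimes R ∧ ringKrullDim (R ⧸ (b ⊔ P)) ≤ d}
  have hC : irreducibleComponents (PrimeSpectrum R) = (fun P : Ideal R => zeroLocus (P : Set R)) '' minimalPrimes R := by
    rw [← zeroLocus_minimalPrimes]; rfl
  obtain ⟨Pa, hPa, hPa'⟩ := exists_minimalPrime_dim_gt (lt_of_lt_of_le hab (min_le_left _ _))
  obtain ⟨Pb, hPb, hPb'⟩ := exists_minimalPrime_dim_gt (lt_of_lt_of_le hab (min_le_right _ _))
  have hcond : A ⊆ irreducibleComponents (PrimeSpectrum R) ∧ B ⊆ irreducibleComponents (PrimeSpectrum R) ∧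
      A.Nonempty ∧ B.Nonempty ∧ A ∪ B = irreducibleComponents (PrimeSpectrum R) := by
    refine ⟨hC ▸ Set.image_mono fun P h => h.1, hC ▸ Set.image_mono fun P h => h.1,
      ⟨_, Pb, ⟨hPb, (hor Pb hPb).resolve_right hPb'.not_ge⟩, rfl⟩,
      ⟨_, Pa, ⟨hPa, (hor Pa hPa).resolve_left hPa'.not_ge⟩, rfl⟩, ?_⟩
    rw [hC, ← Set.image_union]
    congr 1
    exact subset_antisymm (Set.union_subset (fun P h => h.1) fun P h => h.1) fun P hP =>
      (hor P hP).imp (fun h => ⟨hP, h⟩) fun h => ⟨hP, h⟩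
  have hclosed : IsClosed (⋃₀ A ∩ ⋃₀ B) := (isClosed_sUnion hcond.1).inter (isClosed_sUnion hcond.2.1)
  have hc : LocCoh.connDim (PrimeSpectrum R) ≤ ((d + k : ℕ) : WithBot ℕ∞) := by
    rw [connDim_eq]
    refine iInf_le_of_le A ((iInf₂_le B hcond).trans ?_)
    rw [dim_closed hclosed, ringKrullDim_quotient]
    refine iSup_le fun l => ?_
    have hr : l.head.1 ∈ ⋃₀ A ∩ ⋃₀ B := by
      exact (Set.ext_iff.1 ((zeroLocus_vanishingIdeal_eq_closure _).trans hclosed.closure_eq) l.head.1).1 l.head.2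
    obtain ⟨⟨_, ⟨Pi, ⟨hPi, hPid⟩, rfl⟩, hri⟩, ⟨_, ⟨Pj, ⟨hPj, hPjd⟩, rfl⟩, hrj⟩⟩ := hr
    let l' : LTSeries (zeroLocus (R := R) (l.head.1.asIdeal : Set R)) :=
      ⟨l.length, fun j => ⟨(l j).1, show l.head.1.asIdeal ≤ (l j).1.asIdeal from l.head_le j⟩, fun j => l.step j⟩
    have h1 : (l.length : WithBot ℕ∞) ≤ ringKrullDim (R ⧸ l.head.1.asIdeal) := by
      rw [ringKrullDim_quotient]; exact Order.LTSeries.length_le_krullDim l'
    refine h1.trans ?_
    have hrm : l.head.1.asIdeal ≤ maximalIdeal R := le_maximalIdeal l.head.1.isPrime.ne_top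
    obtain ⟨e, he⟩ := exists_dim_nat (sup_le (inf_le_left.trans ham) hrm : a ⊓ b ⊔ l.head.1.asIdeal ≤ maximalIdeal R)
    refine (dim_le_cd_add l.head.1.asIdeal e k (a ⊓ b) (inf_le_left.trans ham) he hk).trans ?_
    have hed : ringKrullDim (R ⧸ (a ⊓ b ⊔ l.head.1.asIdeal)) ≤ d := by
      rw [ringKrullDim_quotient]
      refine iSup_le fun m => ?_
      have hm : a ⊓ b ⊔ l.head.1.asIdeal ≤ m.head.1.asIdeal := m.head.2
      rcases (m.head.1.isPrime.mul_le).1 (Ideal.mul_le_inf.trans (le_sup_left.trans hm)) with h | h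
      · let m' : LTSeries (zeroLocus (R := R) ((a ⊔ Pi : Ideal R) : Set R)) :=
          ⟨m.length, fun j => ⟨(m j).1, (sup_le h ((show Pi ≤ l.head.1.asIdeal from hri).trans (le_sup_right.trans hm))).trans
            (show m.head.1.asIdeal ≤ (m j).1.asIdeal from m.head_le j)⟩, fun j => m.step j⟩
        refine le_trans ?_ hPid
        rw [ringKrullDim_quotient]; exact Order.LTSeries.length_le_krullDim m'
      · let m' : LTSeries (zeroLocus (R := R) ((b ⊔ Pj : Ideal R) : Set R)) :=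
          ⟨m.length, fun j => ⟨(m j).1, (sup_le h ((show Pj ≤ l.head.1.asIdeal from hrj).trans (le_sup_right.trans hm))).trans
            (show m.head.1.asIdeal ≤ (m j).1.asIdeal from m.head_le j)⟩, fun j => m.step j⟩
        refine le_trans ?_ hPjd
        rw [ringKrullDim_quotient]; exact Order.LTSeries.length_le_krullDim m'
    rw [he] at hed
    have : e ≤ d := by exact_mod_cast hed
    exact_mod_cast (show k + e ≤ d + k by omega)
  refine (min_le_left _ _).trans ((add_le_add hc le_rfl).trans (le_of_eq ?_))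
  push_cast
  rfl

/-- `min (c(R) + 1) (sdim R) ≤ c(R/a) + ara a + 1`. -/
theorem min_le_connDim_add [IsAdicComplete (maximalIdeal R) R] (a : Ideal R) (ha : a ≠ ⊤) (s : Finset R)
    (hs : (Ideal.span (s : Set R)).radical = a.radical) :
    min (LocCoh.connDim (PrimeSpectrum R) + 1) (LocCoh.subdim (PrimeSpectrum R)) ≤
      LocCoh.connDim (PrimeSpectrum (R ⧸ a)) + (s.card : WithBot ℕ∞) + 1 := by
  haveI : Nontrivial (R ⧸ a) := Ideal.Quotient.nontrivial_iff.2 ha
  have hfin : topologicalKrullDim (PrimeSpectrum (R ⧸ a)) < ⊤ := by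
    obtain ⟨e, he⟩ := exists_dim_nat (le_maximalIdeal' ha)
    rw [topologicalKrullDim_eq_ringKrullDim, he]
    exact WithBot.coe_lt_coe.2 (ENat.natCast_lt_top e)
  obtain ⟨hle, hiff⟩ := connDim_le_subdim (T := PrimeSpectrum (R ⧸ a)) hfin
  have hcd : LocCoh.CdLE R a s.card :=
    cdLE_congr_radical (Ideal.le_radical.trans hs.le) (Ideal.le_radical.trans hs.ge) (cdLE_span_finset s)
  rcases hle.eq_or_lt with heq | hlt
  · haveI := hiff.1 heq
    have hcomp : irreducibleComponents (PrimeSpectrum (R ⧸ a)) = {Set.univ} := irreducibleComponents_eq_singleton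
    have hsub : LocCoh.connDim (PrimeSpectrum (R ⧸ a)) = ringKrullDim (R ⧸ a) := by
      rw [heq, ← topologicalKrullDim_eq_ringKrullDim, ← dim_univ]
      refine le_antisymm (iInf₂_le _ (by rw [hcomp]; rfl)) (le_iInf₂ fun Z hZ => ?_)
      rw [hcomp, Set.mem_singleton_iff] at hZ
      rw [hZ]
    rw [hsub]
    obtain ⟨P, hP, -⟩ := exists_minimalPrime_le (R := R) ⟨maximalIdeal R, inferInstance⟩
    haveI := hP.1.1
    obtain ⟨e, he⟩ := exists_dim_nat (sup_le (le_maximalIdeal' ha) (le_maximalIdeal hP.1.1.ne_top))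
    refine (min_le_right _ _).trans ((subdim_le_of_minimalPrime hP).trans ?_)
    refine (dim_le_cd_add P e s.card a (le_maximalIdeal' ha) he hcd).trans ?_
    obtain ⟨m, hm⟩ := exists_dim_nat (le_maximalIdeal' ha)
    have h1 : e ≤ m := by
      have := he.symm.le.trans ((dim_quotient_anti le_sup_left).trans hm.le)
      exact_mod_cast this
    rw [hm]
    exact_mod_cast (show s.card + e ≤ m + s.card + 1 by omega)
  let S : Set (WithBot ℕ∞) := {x | ∃ A B : Set (Set (PrimeSpectrum (R ⧸ a))),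
    (A ⊆ irreducibleComponents _ ∧ B ⊆ irreducibleComponents _ ∧ A.Nonempty ∧ B.Nonempty ∧
      A ∪ B = irreducibleComponents (PrimeSpectrum (R ⧸ a))) ∧ topologicalKrullDim ↥(⋃₀ A ∩ ⋃₀ B) = x}
  have hSne : S.Nonempty := by
    have hne : (irreducibleComponents (PrimeSpectrum (R ⧸ a))).Nonempty :=
      ⟨_, irreducibleComponent_mem_irreducibleComponents (Classical.arbitrary _)⟩
    exact ⟨_, _, _, ⟨subset_rfl, subset_rfl, hne, hne, Set.union_self _⟩, rfl⟩
  obtain ⟨x, ⟨A, B, hcond, hx⟩, hmin⟩ := wellFounded_lt.has_min S hSne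
  have hconn : LocCoh.connDim (PrimeSpectrum (R ⧸ a)) = x := by
    rw [connDim_eq]
    exact le_antisymm (iInf_le_of_le A ((iInf₂_le B hcond).trans hx.le))
      (le_iInf fun A' => le_iInf₂ fun B' h' => not_lt.1 (hmin _ ⟨A', B', h', rfl⟩))
  rw [hconn] at hlt ⊢
  let π := Ideal.Quotient.mk a
  have hπ : Function.Surjective π := Ideal.Quotient.mk_surjective
  have hA := isClosed_sUnion hcond.1
  have hB := isClosed_sUnion hcond.2.1
  let aA := (vanishingIdeal (⋃₀ A)).comap π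
  let aB := (vanishingIdeal (⋃₀ B)).comap π
  have hdim : ∀ I : Ideal (R ⧸ a), ringKrullDim (R ⧸ I.comap π) = ringKrullDim ((R ⧸ a) ⧸ I) := fun I => by
    refine ringKrullDim_eq_of_ringEquiv (RingEquiv.ofBijective (Ideal.quotientMap I π le_rfl)
      ⟨Ideal.quotientMap_injective, Ideal.quotientMap_surjective hπ⟩)
  have hbig : ∀ A' : Set (Set (PrimeSpectrum (R ⧸ a))), A' ⊆ irreducibleComponents _ → A'.Nonempty →
      IsClosed (⋃₀ A') → x < ringKrullDim (R ⧸ (vanishingIdeal (⋃₀ A')).comap π) := fun A' h1 ⟨K, hK⟩ h2 => by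
    rw [hdim, ← dim_closed h2]
    exact hlt.trans_le ((iInf₂_le K (h1 hK)).trans (dim_mono (Set.subset_sUnion_of_mem hK)))
  have hne : ∀ A' : Set (Set (PrimeSpectrum (R ⧸ a))), A' ⊆ irreducibleComponents _ → A'.Nonempty →
      IsClosed (⋃₀ A') → (vanishingIdeal (⋃₀ A')).comap π ≠ ⊤ := fun A' h1 h2 h3 e => by
    have h4 := hbig A' h1 h2 h3
    haveI : Subsingleton (R ⧸ (vanishingIdeal (⋃₀ A')).comap π) := Ideal.Quotient.subsingleton_iff.2 e
    rw [ringKrullDim_eq_bot_of_subsingleton] at h4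
    exact not_lt_bot h4
  have hsup : ringKrullDim (R ⧸ (aA ⊔ aB)) = x := by
    rw [← hx, dim_closed (hA.inter hB), show aA ⊔ aB = (vanishingIdeal (⋃₀ A) ⊔ vanishingIdeal (⋃₀ B)).comap π from
      ((Ideal.comap_map_of_surjective π hπ (aA ⊔ aB)).trans (sup_of_le_left (le_trans (Ideal.comap_mono bot_le) le_sup_left))).symm.trans
        (by rw [Ideal.map_sup, Ideal.map_comap_of_surjective π hπ, Ideal.map_comap_of_surjective π hπ]), hdim,
      ← dim_zeroLocus, ← dim_zeroLocus, zeroLocus_sup, zeroLocus_vanishingIdeal_eq_closure,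
      zeroLocus_vanishingIdeal_eq_closure, zeroLocus_vanishingIdeal_eq_closure, (hA.inter hB).closure_eq,
      hA.closure_eq, hB.closure_eq]
  have hrad : aA ⊓ aB = a.radical := by
    rw [← Ideal.comap_inf, ← vanishingIdeal_union, ← Set.sUnion_union, hcond.2.2.2.2, sUnion_irreducibleComponents,
      ← zeroLocus_bot, vanishingIdeal_zeroLocus_eq_radical, Ideal.comap_radical, ← RingHom.ker_eq_comap_bot, Ideal.mk_ker]
  have h := min_le_dim_add aA aB (hne A hcond.1 hcond.2.2.1 hA) (hne B hcond.2.1 hcond.2.2.2.1 hB)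
    (by rw [hsup]; exact lt_min (hbig A hcond.1 hcond.2.2.1 hA) (hbig B hcond.2.1 hcond.2.2.2.1 hB)) s.card
    (cdLE_congr_radical (hrad ▸ Ideal.le_radical.trans Ideal.le_radical) (hrad.le) hcd)
  rwa [hsup] at h

end Groth.Agent.HLV27
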