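import Groth.Agent.Lib.HLV27.Main
import Groth.Agent.Lib.LocCoh.Change
import Groth.Agent.Lib.LocCoh.Nonvanish

/-!
# Non-vanishing of top local cohomology
-/

set_option autoImplicit false
universe u

open CategoryTheory IsLocalRing TensorProduct
open Groth.Agent.LocCohLib Groth.Agent.InjHullLib

noncomputable section

namespace Groth.Agent.HLV27

variable {R : Type u} [CommRing R] [IsLocalRing R] [IsNoetherianRing R]

/-- On modules killed by `P`, only `I + P` matters. -/
theorem nontrivial_H_of_radical_eq {I P : Ideal R} (h : maximalIdeal R ≤ (I ⊔ P).radical) (hI : I ≤ maximalIdeal R)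
    (M : Type u) [AddCommGroup M] [Module R M] [Module.Finite R M] (hM : ∀ a ∈ P, ∀ x : M, a • x = 0) (n : ℕ)
    (hn : Module.supportDim R M = n) : Nontrivial (LocCoh.H I n M) := by
  obtain ⟨e⟩ := nonempty_congr_torsion I (maximalIdeal R) P (fun N _ _ hN =>
    le_antisymm (powTors_le_of_radical_sup h hN) (powTors_le_of_radical (hI.trans Ideal.le_radical) N)) n M
    (fun x => ⟨1, fun a ha => hM a (by rwa [pow_one] at ha) x⟩)
  haveI := (nontrivial_and_not_finite n M hn).1
  exact e.toEquiv.nontrivial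

theorem dim_pos_of_vanishing (n : ℕ) (a : Ideal R) (ha : a ≠ ⊤) (hvan : Subsingleton (LocCoh.H a n R))
    (hn : ringKrullDim R = n) (P : Ideal (AdicCompletion (maximalIdeal R) R)) [P.IsPrime]
    (hP : ringKrullDim (AdicCompletion (maximalIdeal R) R ⧸ P) = n) :
    1 ≤ ringKrullDim (AdicCompletion (maximalIdeal R) R ⧸
      (a.map (algebraMap R (AdicCompletion (maximalIdeal R) R)) ⊔ P)) := by
  let R' := AdicCompletion (maximalIdeal R) R
  haveI : Module.FaithfullyFlat R R' := CplLocH7.faithfullyFlat_cpl R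
  haveI : IsNoetherianRing R' := CplLocH7.isNoetherianRing_cpl R
  have hd' : ringKrullDim R' = n := (Compl.ringKrullDim_maximalIdeal_adicCompletion R).trans hn
  let a' := a.map (algebraMap R R')
  have ha' : a' ≤ maximalIdeal R' := by
    refine (Ideal.map_mono (le_maximalIdeal ha)).trans ?_
    rw [CplLocH7.maximalIdeal_cpl R]
  have hle : a' ⊔ P ≤ maximalIdeal R' := sup_le ha' (le_maximalIdeal (Ideal.IsPrime.ne_top ‹_›))
  by_contra hlt
  haveI : Nontrivial (R' ⧸ (a' ⊔ P)) := Ideal.Quotient.nontrivial_iff.2 fun h =>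
    (maximalIdeal.isMaximal R').ne_top (top_le_iff.1 (h ▸ hle))
  haveI : Ring.KrullDimLE 0 (R' ⧸ (a' ⊔ P)) := by
    obtain ⟨k, hk⟩ := DepthLib.exists_ringKrullDim_quotient_eq_natCast (a' ⊔ P)
      (fun h => (maximalIdeal.isMaximal R').ne_top (top_le_iff.1 (h ▸ hle)))
    refine Ring.krullDimLE_iff.2 ?_
    rw [hk] at hlt ⊢
    have : ¬ (1 ≤ k) := fun h => hlt (by exact_mod_cast h)
    exact_mod_cast (show k ≤ 0 by omega)
  have hrad : maximalIdeal R' ≤ (a' ⊔ P).radical := by
    rw [Ideal.radical_eq_sInf]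
    refine le_sInf fun q ⟨hq, hqp⟩ => ?_
    haveI := hqp
    haveI : (q.map (Ideal.Quotient.mk (a' ⊔ P))).IsPrime :=
      Ideal.map_isPrime_of_surjective Ideal.Quotient.mk_surjective (by rwa [Ideal.mk_ker])
    haveI : (q.map (Ideal.Quotient.mk (a' ⊔ P))).IsMaximal := Ideal.IsPrime.isMaximal' ‹_›
    have hc : ((q.map (Ideal.Quotient.mk (a' ⊔ P))).comap (Ideal.Quotient.mk (a' ⊔ P))).IsMaximal :=
      Ideal.comap_isMaximal_of_surjective _ Ideal.Quotient.mk_surjective
    rw [Ideal.comap_map_of_surjective _ Ideal.Quotient.mk_surjective, ← RingHom.ker_eq_comap_bot, Ideal.mk_ker,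
      sup_of_le_left hq] at hc
    exact (eq_maximalIdeal hc).ge
  have hdimP : Module.supportDim R' (R' ⧸ P) = n := by rw [Module.supportDim_quotient_eq_ringKrullDim, hP]
  haveI hnt := nontrivial_H_of_radical_eq hrad ha' (R' ⧸ P) (fun b hb x =>
    Module.mem_annihilator.1 (by rwa [Ideal.annihilator_quotient]) x) n hdimP
  haveI : Subsingleton (LocCoh.H a n R) := hvan
  obtain ⟨e⟩ := nonempty_baseChange_H (R' := R') a n R
  haveI : Subsingleton (LocCoh.H a' n R') :=
    (e.trans (hcongr _ n (TensorProduct.AlgebraTensorModule.rid R R' R'))).symm.toEquiv.subsingleton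
  have hsur : Function.Surjective (hmap a' n P.mkQ) := hmap_g_surjective a' P.injective_subtype P.mkQ_surjective
    (LinearMap.exact_subtype_mkQ P) n (cdLE_of_ringKrullDim_le a' hd'.le P (n + 1) n.lt_succ_self)
  exact not_nontrivial_iff_subsingleton.2 hsur.subsingleton hnt

end Groth.Agent.HLV27
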