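import Groth.Agent.Lib.HLV27.NonVan
import Groth.Agent.Lib.LocCoh.MayerVietoris27
import Mathlib.RingTheory.KrullDimension.Regular

/-!
# Connectedness bounds from cohomological dimension
-/

set_option autoImplicit false
universe u

open CategoryTheory IsLocalRing
open Groth.Agent.LocCohLib Groth.Agent.InjHullLib

noncomputable section

namespace Groth.Agent.HLV27

variable {R : Type u} [CommRing R] [IsLocalRing R] [IsNoetherianRing R]

omit [IsLocalRing R] in
theorem cdLE_sup_singleton {I : Ideal R} {k : ℕ} (h : LocCoh.CdLE R I k) (x : R) :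
    LocCoh.CdLE R (I ⊔ Ideal.span {x}) (k + 1) := fun M _ _ i hi => by
  obtain ⟨j, rfl⟩ : ∃ j, i = j + 1 := ⟨i - 1, by omega⟩
  obtain ⟨e⟩ := nonempty_ker_cmpLE_equiv I x j M
  haveI := h M j (by omega)
  haveI := h M (j + 1) (by omega)
  haveI : Subsingleton (LocCoh.H (Ideal.span {x}) 1 (LocCoh.H I j M)) :=
    subsingleton_of_isPowerTorsion (Ideal.span {x}) 0 _ fun z => ⟨0, fun a _ => Subsingleton.elim _ _⟩
  haveI := e.toEquiv.subsingleton
  exact subsingleton_of_forall_eq 0 fun z => congrArg Subtype.val (Subsingleton.elim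
    (⟨z, Subsingleton.elim _ _⟩ : LinearMap.ker (cmpLE (le_sup_left : I ≤ I ⊔ Ideal.span {x}) (j + 1) M)) 0)

omit [IsLocalRing R] in
theorem cdLE_congr_radical {I J : Ideal R} (hIJ : I ≤ J.radical) (hJI : J ≤ I.radical) {k : ℕ}
    (h : LocCoh.CdLE R I k) : LocCoh.CdLE R J k := fun M _ _ i hi => by
  haveI := h M i hi
  obtain ⟨e⟩ := nonempty_congr_radical hIJ hJI i M
  exact e.symm.toEquiv.subsingleton

theorem mul_le_sup {S : Type u} [CommRing S] (a b c : Ideal S) : (a ⊔ c) * (b ⊔ c) ≤ a ⊓ b ⊔ c := by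
  rw [Ideal.sup_mul, Ideal.mul_sup]
  refine sup_le (sup_le ?_ ?_) ?_
  · exact le_trans (Ideal.mul_le_inf (I := a) (J := b)) le_sup_left
  · exact le_trans (Ideal.mul_le_right (I := a) (J := c)) le_sup_right
  · exact le_trans (Ideal.mul_le_left (I := c) (J := b ⊔ c)) le_sup_right

theorem exists_dim_nat {J : Ideal R} (hJ : J ≤ maximalIdeal R) : ∃ d : ℕ, ringKrullDim (R ⧸ J) = d :=
  DepthLib.exists_ringKrullDim_quotient_eq_natCast J (ne_top_of_le_ne_top (maximalIdeal.isMaximal R).ne_top hJ)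

omit [IsLocalRing R] [IsNoetherianRing R] in
theorem dim_quotient_anti {I J : Ideal R} (h : I ≤ J) : ringKrullDim (R ⧸ J) ≤ ringKrullDim (R ⧸ I) :=
  ringKrullDim_le_of_surjective (Ideal.Quotient.factor h) (Ideal.Quotient.factor_surjective h)

theorem supportDim_quotSMulTop_quotient (x : R) (J : Ideal R) :
    Module.supportDim R (QuotSMulTop x (R ⧸ J)) = ringKrullDim (R ⧸ (J ⊔ Ideal.span {x})) := by
  have h : Module.support R (QuotSMulTop x (R ⧸ J)) = Module.support R (R ⧸ (J ⊔ Ideal.span {x})) := by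
    rw [Module.support_quotSMulTop, Module.support_eq_zeroLocus, Module.support_eq_zeroLocus, Ideal.annihilator_quotient,
      Ideal.annihilator_quotient, PrimeSpectrum.zeroLocus_sup, PrimeSpectrum.zeroLocus_span]
  rw [← Module.supportDim_quotient_eq_ringKrullDim]
  exact congrArg (fun s : Set (PrimeSpectrum R) => Order.krullDim s) h

/-- An element cutting the dimension of `R ⧸ J`. -/
theorem exists_cut {J : Ideal R} (hJ : J ≤ maximalIdeal R) {d : ℕ} (hd : ringKrullDim (R ⧸ J) = (d + 1 : ℕ)) :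
    ∃ x ∈ maximalIdeal R, ringKrullDim (R ⧸ (J ⊔ Ideal.span {x})) = (d : ℕ) := by
  have hfin := Ideal.finite_minimalPrimes_of_isNoetherianRing R J
  have hnot : ¬ ((maximalIdeal R : Set R) ⊆ ⋃ q ∈ (hfin.toFinset : Set (Ideal R)), (q : Set R)) := by
    rw [Ideal.subset_union_prime ⊥ ⊥ (fun q hq _ _ => (hfin.mem_toFinset.1 hq).1.1)]
    rintro ⟨q, hq, hmq⟩
    have hq' := hfin.mem_toFinset.1 hq
    have hrad : ∀ r : PrimeSpectrum R, J ≤ r.asIdeal → r.asIdeal = maximalIdeal R := fun r hr =>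
      le_antisymm (le_maximalIdeal r.isPrime.ne_top) (hmq.trans (hq'.2 ⟨r.isPrime, hr⟩
        ((le_maximalIdeal r.isPrime.ne_top).trans hmq)))
    have h0 : ringKrullDim (R ⧸ J) ≤ (0 : ℕ) := by
      rw [ringKrullDim_quotient]
      refine iSup_le fun l => ?_
      by_contra hl
      push Not at hl
      have hlen : 0 < l.length := by exact_mod_cast hl
      have := l.strictMono (show (0 : Fin (l.length + 1)) < Fin.last _ from by
        rw [Fin.lt_def]; exact hlen)
      exact this.ne (Subtype.ext (PrimeSpectrum.ext ((hrad _ (l 0).2).trans (hrad _ (l (Fin.last _)).2).symm)))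
    rw [hd] at h0
    have : d + 1 ≤ 0 := by exact_mod_cast h0
    omega
  obtain ⟨x, hx, hxn⟩ := Set.not_subset.1 hnot
  refine ⟨x, hx, ?_⟩
  have h1 := Module.supportDim_quotSMulTop_succ_eq_of_notMem_minimalPrimes_of_mem_maximalIdeal (M := R ⧸ J)
    (x := x) (by
      intro q hq hxq
      rw [Ideal.annihilator_quotient] at hq
      exact hxn (Set.mem_biUnion (hfin.mem_toFinset.2 hq) hxq)) hx
  rw [supportDim_quotSMulTop_quotient, Module.supportDim_quotient_eq_ringKrullDim, hd] at h1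
  obtain ⟨e, he⟩ := exists_dim_nat (J := J ⊔ Ideal.span {x}) (sup_le hJ ((Ideal.span_singleton_le_iff_mem _).2 hx))
  rw [he] at h1 ⊢
  have : e + 1 = d + 1 := by exact_mod_cast h1
  rw [show e = d by omega]

theorem dim_le_succ {J : Ideal R} {x : R} (hx : x ∈ maximalIdeal R) :
    ringKrullDim (R ⧸ J) ≤ ringKrullDim (R ⧸ (J ⊔ Ideal.span {x})) + 1 := by
  rw [← supportDim_quotSMulTop_quotient, ← Module.supportDim_quotient_eq_ringKrullDim]
  exact Module.supportDim_le_supportDim_quotSMulTop_succ hx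

omit [IsNoetherianRing R] in
theorem radical_eq_of_dim_zero {J : Ideal R} (hd : ringKrullDim (R ⧸ J) = (0 : ℕ)) :
    maximalIdeal R ≤ J.radical := by
  rw [Ideal.radical_eq_sInf]
  refine le_sInf fun q ⟨hq, hqp⟩ => ?_
  by_contra hqm
  have hJm : J ≤ maximalIdeal R := hq.trans (le_maximalIdeal hqp.ne_top)
  rw [ringKrullDim_quotient] at hd
  let l : LTSeries (PrimeSpectrum.zeroLocus (R := R) (J : Set R)) :=
    (RelSeries.singleton _ (⟨⟨q, hqp⟩, hq⟩ : PrimeSpectrum.zeroLocus (R := R) _)).snoc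
      ⟨⟨maximalIdeal R, inferInstance⟩, hJm⟩
      (show (⟨q, hqp⟩ : PrimeSpectrum R) < ⟨maximalIdeal R, inferInstance⟩ from
        lt_of_le_not_ge (le_maximalIdeal hqp.ne_top) hqm)
  have := Order.LTSeries.length_le_krullDim l
  rw [hd] at this
  simp [l] at this
  exact absurd this (by norm_num)

/-- `dim R/q ≤ cd(I) + dim R/(I + q)`. -/
theorem dim_le_cd_add (q : Ideal R) [q.IsPrime] : ∀ (e k : ℕ) (I : Ideal R), I ≤ maximalIdeal R →
    ringKrullDim (R ⧸ (I ⊔ q)) = e → LocCoh.CdLE R I k → ringKrullDim (R ⧸ q) ≤ ((k + e : ℕ) : WithBot ℕ∞) := by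
  intro e
  induction e with
  | zero =>
    intro k I hI he hk
    obtain ⟨n, hn⟩ := exists_dim_nat (le_maximalIdeal (Ideal.IsPrime.ne_top (I := q) ‹_›))
    haveI hnt := nontrivial_H_of_radical_eq (I := I) (P := q) (radical_eq_of_dim_zero he) hI (R ⧸ q)
      (fun a ha x => Module.mem_annihilator.1 (by rwa [Ideal.annihilator_quotient]) x) n
      (by rw [Module.supportDim_quotient_eq_ringKrullDim, hn])
    rw [hn]
    by_contra hlt
    have : k < n := by
      have : ¬ (n ≤ k + 0) := fun h => hlt (by exact_mod_cast h)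
      omega
    exact not_nontrivial_iff_subsingleton.2 (hk (R ⧸ q) n this) hnt
  | succ e ih =>
    intro k I hI he hk
    obtain ⟨x, hx, hx'⟩ := exists_cut (sup_le hI (le_maximalIdeal (Ideal.IsPrime.ne_top (I := q) ‹_›))) he
    have h := ih (k + 1) (I ⊔ Ideal.span {x}) (sup_le hI ((Ideal.span_singleton_le_iff_mem _).2 hx))
      (by rw [sup_right_comm]; exact hx') (cdLE_sup_singleton hk x)
    exact h.trans (le_of_eq (by congr 1; push_cast; ring))

/-- The connectedness bound on an integral quotient. -/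
theorem dim_le_connected [IsAdicComplete (maximalIdeal R) R] (P : Ideal R) [P.IsPrime] : ∀ (d k : ℕ) (a b : Ideal R),
    a ≤ maximalIdeal R → b ≤ maximalIdeal R → ringKrullDim (R ⧸ (a ⊔ b ⊔ P)) = d →
    (d : WithBot ℕ∞) < ringKrullDim (R ⧸ (a ⊔ P)) → (d : WithBot ℕ∞) < ringKrullDim (R ⧸ (b ⊔ P)) →
    LocCoh.CdLE R (a ⊓ b) k → ringKrullDim (R ⧸ P) ≤ ((k + d + 1 : ℕ) : WithBot ℕ∞) := by
  have hPm : P ≤ maximalIdeal R := le_maximalIdeal (Ideal.IsPrime.ne_top ‹_›)
  intro d
  induction d using Nat.strong_induction_on with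
  | _ d ih =>
  intro k a b ha hb hd hda hdb hk
  obtain ⟨n, hn⟩ := exists_dim_nat hPm
  rcases d with _ | d
  · rw [hn]
    obtain ⟨m, rfl⟩ : ∃ m, n = m + 1 := ⟨n - 1, by
      have h1 : (0 : WithBot ℕ∞) < (n : ℕ) := by
        have := lt_of_lt_of_le hda ((dim_quotient_anti le_sup_right).trans hn.le)
        exact_mod_cast this
      have : 0 < n := by exact_mod_cast h1
      omega⟩
    have hz : ∀ c : Ideal R, c ≤ maximalIdeal R → ((0 : ℕ) : WithBot ℕ∞) < ringKrullDim (R ⧸ (c ⊔ P)) →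
        Subsingleton (LocCoh.H c (m + 1) (R ⧸ P)) := fun c hc hdc =>
      subsingleton_H_top c (R ⧸ P) (m + 1) (by rw [Module.supportDim_quotient_eq_ringKrullDim, hn]) fun p hp hpd => by
        have hPp : P ≤ p.asIdeal := by
          rw [Module.support_eq_zeroLocus, Ideal.annihilator_quotient] at hp
          exact hp
        have hpP : p.asIdeal ≤ P := CanonModLib.le_of_le_of_coheight (R ⧸ P) (n := m + 1)
          (by rw [Module.supportDim_quotient_eq_ringKrullDim, hn]) (by rw [Ideal.annihilator_quotient]) hPp hpd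
        obtain ⟨q, hq, hq1⟩ := exists_prime_ge_dim_one (I := c ⊔ P) (by exact_mod_cast hdc)
        refine ⟨q, sup_le (le_sup_left.trans hq) (hpP.trans (le_sup_right.trans hq)), fun hqm => ?_⟩
        rw [hqm, ringKrullDim_eq_zero_of_isField
          ((Ideal.Quotient.maximal_ideal_iff_isField_quotient _).1 inferInstance)] at hq1
        exact zero_ne_one hq1
    haveI := hz a ha hda
    haveI := hz b hb hdb
    haveI hnt := nontrivial_H_of_radical_eq (I := a ⊔ b) (P := P) (radical_eq_of_dim_zero hd) (sup_le ha hb) (R ⧸ P)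
      (fun c hc x => Module.mem_annihilator.1 (by rwa [Ideal.annihilator_quotient]) x) (m + 1)
      (by rw [Module.supportDim_quotient_eq_ringKrullDim, hn])
    obtain ⟨δ, -, hδ, -, -⟩ := mayer_vietoris (I := a) (J := b) (R ⧸ P)
    obtain ⟨z, hz⟩ := exists_ne (0 : LocCoh.H (a ⊔ b) (m + 1) (R ⧸ P))
    have hzm : z ∈ LinearMap.range (δ m) := by
      rw [← hδ m, LinearMap.mem_ker]
      exact Subsingleton.elim _ _
    obtain ⟨w, rfl⟩ := hzm
    by_contra hlt
    have : k < m := by
      have : ¬ (m + 1 ≤ k + 0 + 1) := fun h => hlt (by exact_mod_cast h)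
      omega
    exact hz (by rw [(hk (R ⧸ P) m this).elim w 0, map_zero])
  · obtain ⟨x, hx, hx'⟩ := exists_cut (sup_le (sup_le ha hb) hPm) hd
    have hxm : Ideal.span {x} ≤ maximalIdeal R := (Ideal.span_singleton_le_iff_mem _).2 hx
    have hcd : LocCoh.CdLE R ((a ⊔ Ideal.span {x}) ⊓ (b ⊔ Ideal.span {x})) (k + 1) := by
      refine cdLE_congr_radical (I := a ⊓ b ⊔ Ideal.span {x}) ?_ ?_ (cdLE_sup_singleton hk x)
      · exact (le_inf (sup_le_sup_right inf_le_left _) (sup_le_sup_right inf_le_right _)).trans Ideal.le_radical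
      · intro y hy
        refine ⟨2, ?_⟩
        have h1 : y * y ∈ (a ⊔ Ideal.span {x}) * (b ⊔ Ideal.span {x}) := Ideal.mul_mem_mul hy.1 hy.2
        rw [pow_two]
        exact mul_le_sup a b (Ideal.span {x}) h1
    have hstep : ∀ c : Ideal R, c ≤ maximalIdeal R → ((d + 1 : ℕ) : WithBot ℕ∞) < ringKrullDim (R ⧸ (c ⊔ P)) →
        (d : WithBot ℕ∞) < ringKrullDim (R ⧸ (c ⊔ Ideal.span {x} ⊔ P)) := fun c hc hdc => by
      obtain ⟨e, he⟩ := exists_dim_nat (sup_le hc hPm)
      obtain ⟨e', he'⟩ := exists_dim_nat (sup_le (sup_le hc hxm) hPm)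
      have h1 := dim_le_succ (J := c ⊔ P) hx
      rw [sup_right_comm c P, he, he'] at h1
      rw [he] at hdc
      rw [he']
      have h2 : e ≤ e' + 1 := by exact_mod_cast h1
      have h3 : d + 1 < e := by exact_mod_cast hdc
      exact_mod_cast (show d < e' by omega)
    have h := ih d (Nat.lt_succ_self d) (k + 1) (a ⊔ Ideal.span {x}) (b ⊔ Ideal.span {x}) (sup_le ha hxm)
      (sup_le hb hxm) (by
        rw [sup_sup_sup_comm, sup_idem, sup_right_comm]; exact hx') (hstep a ha hda) (hstep b hb hdb) hcd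
    exact h.trans (le_of_eq (by congr 1; push_cast; ring))

end Groth.Agent.HLV27
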