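import Mathlib.RingTheory.AdicCompletion.Basic
import Mathlib.RingTheory.Filtration
import Mathlib.RingTheory.Artinian.Module
import Mathlib.RingTheory.Localization.AtPrime.Basic
import Mathlib.RingTheory.HopkinsLevitzki
import Groth.Agent.Lib.HLV27.Connect

/-!
# Chevalley's lemma and symbolic powers in dimension one
-/

set_option autoImplicit false
universe u

open IsLocalRing

noncomputable section

namespace Groth.Agent.HLV27

variable {A : Type u} [CommRing A] [IsLocalRing A] [IsNoetherianRing A]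

theorem iInf_sup_pow (I : Ideal A) : ⨅ j : ℕ, I ⊔ maximalIdeal A ^ j = I := by
  refine le_antisymm (fun x hx => ?_) (le_iInf fun j => le_sup_left)
  by_cases hI : I = ⊤
  · rw [hI]; trivial
  refine (Submodule.Quotient.mk_eq_zero I).1 ?_
  have h : (Submodule.Quotient.mk x : A ⧸ I) ∈ ⨅ j : ℕ, maximalIdeal A ^ j • (⊤ : Submodule A (A ⧸ I)) := by
    refine (Submodule.mem_iInf _).2 fun j => ?_
    obtain ⟨u, hu, v, hv, rfl⟩ := Submodule.mem_sup.1 ((Submodule.mem_iInf _).1 hx j)
    rw [Submodule.Quotient.mk_add, (Submodule.Quotient.mk_eq_zero I).2 hu, zero_add]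
    have := Submodule.smul_mem_smul hv (Submodule.mem_top (x := (Submodule.Quotient.mk 1 : A ⧸ I)))
    rwa [← Submodule.Quotient.mk_smul, smul_eq_mul, mul_one] at this
  rwa [Ideal.iInf_pow_smul_eq_bot_of_isLocalRing _ (maximalIdeal.isMaximal A).ne_top, Submodule.mem_bot] at h

/-- Chevalley: a decreasing family of ideals with zero intersection tends to zero. -/
theorem exists_le_pow [IsAdicComplete (maximalIdeal A) A] (a : ℕ → Ideal A) (ha : Antitone a) (h0 : ⨅ q, a q = ⊥) (n : ℕ) :
    ∃ q, a q ≤ maximalIdeal A ^ n := by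
  have hst : ∀ j, ∃ q, ∀ q', q ≤ q' → a q ⊔ maximalIdeal A ^ j = a q' ⊔ maximalIdeal A ^ j := by
    intro j
    haveI : IsArtinianRing (A ⧸ maximalIdeal A ^ j) := by
      rcases j with _ | j
      · rw [pow_zero, Ideal.one_eq_top]; infer_instance
      haveI : Nontrivial (A ⧸ maximalIdeal A ^ (j + 1)) := Ideal.Quotient.nontrivial_iff.2
        (ne_top_of_le_ne_top (maximalIdeal.isMaximal A).ne_top (Ideal.pow_le_self j.succ_ne_zero))
      haveI : Ring.KrullDimLE 0 (A ⧸ maximalIdeal A ^ (j + 1)) := Ring.krullDimLE_zero_iff.2 fun P hP => by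
        haveI := hP
        have h1 : maximalIdeal A ^ (j + 1) ≤ P.comap (Ideal.Quotient.mk _) := fun x hx => by
          rw [Ideal.mem_comap, Ideal.Quotient.eq_zero_iff_mem.2 hx]; exact zero_mem _
        have h2 : P.comap (Ideal.Quotient.mk (maximalIdeal A ^ (j + 1))) = maximalIdeal A :=
          le_antisymm (le_maximalIdeal (Ideal.IsPrime.comap _).ne_top) (Ideal.IsPrime.le_of_pow_le h1)
        haveI : (P.comap (Ideal.Quotient.mk (maximalIdeal A ^ (j + 1)))).IsMaximal := by rw [h2]; infer_instance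
        rw [← Ideal.map_comap_of_surjective _ Ideal.Quotient.mk_surjective P]
        exact (Ideal.map_eq_top_or_isMaximal_of_surjective _ Ideal.Quotient.mk_surjective inferInstance).resolve_left
          (by rw [Ideal.map_comap_of_surjective _ Ideal.Quotient.mk_surjective P]; exact hP.ne_top)
      exact isArtinianRing_iff_isNoetherianRing_krullDimLE_zero.2 ⟨inferInstance, inferInstance⟩
    let T : ℕ →o (Ideal (A ⧸ maximalIdeal A ^ j))ᵒᵈ :=
      ⟨fun q => OrderDual.toDual ((a q).map (Ideal.Quotient.mk _)), fun q q' h => Ideal.map_mono (ha h)⟩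
    obtain ⟨q, hq⟩ := IsArtinian.monotone_stabilizes T
    refine ⟨q, fun q' h => ?_⟩
    have h' := congrArg (fun I : Ideal (A ⧸ maximalIdeal A ^ j) => I.comap (Ideal.Quotient.mk _))
      (OrderDual.toDual.injective (hq q' h))
    have hc : ∀ I : Ideal A, (I.map (Ideal.Quotient.mk (maximalIdeal A ^ j))).comap (Ideal.Quotient.mk _) =
        I ⊔ maximalIdeal A ^ j := fun I => by
      rw [Ideal.comap_map_of_surjective' _ Ideal.Quotient.mk_surjective, Ideal.mk_ker]
    exact (hc _).symm.trans (h'.trans (hc _))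
  choose Q hQ using hst
  refine ⟨Q n, fun x hx => ?_⟩
  let W : ℕ → Ideal A := fun j => a (Q (n + j)) ⊔ maximalIdeal A ^ (n + j)
  have hW : ∀ j (z : A), z ∈ W j → ∃ z', z' ∈ W (j + 1) ∧ z' - z ∈ maximalIdeal A ^ (n + j) := by
    intro j z hz
    change z ∈ _ ⊔ _ at hz
    rw [hQ (n + j) (max (Q (n + j)) (Q (n + (j + 1)))) (le_max_left _ _)] at hz
    obtain ⟨u, hu, v, hv, rfl⟩ := Submodule.mem_sup.1 hz
    exact ⟨u, Ideal.mem_sup_left (ha (le_max_right _ _) hu), by simpa using neg_mem hv⟩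
  choose! nx hnx1 hnx2 using hW
  let z : ℕ → A := fun j => Nat.rec x (fun i w => nx i w) j
  have hz : ∀ j, z j ∈ W j := fun j => by
    induction j with
    | zero => exact Ideal.mem_sup_left hx
    | succ j ih => exact hnx1 j _ ih
  have hcau : ∀ {i j}, i ≤ j → z j - z i ∈ maximalIdeal A ^ (n + i) := by
    intro i j hij
    induction hij with
    | refl => simp
    | @step j hij ih =>
      rw [show z (j + 1) - z i = (z (j + 1) - z j) + (z j - z i) by ring]
      exact add_mem (Ideal.pow_le_pow_right (Nat.add_le_add_left hij n) (hnx2 j _ (hz j))) ih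
  obtain ⟨L, hL⟩ := IsPrecomplete.prec' (I := maximalIdeal A) z fun {i j} h => by
    rw [SModEq.sub_mem, smul_eq_mul, Ideal.mul_top, ← neg_sub]
    exact neg_mem (Ideal.pow_le_pow_right (Nat.le_add_left i n) (hcau h))
  have hL' : ∀ j, L - z j ∈ maximalIdeal A ^ j := fun j => by
    have h := hL j
    rw [SModEq.sub_mem, smul_eq_mul, Ideal.mul_top] at h
    rw [← neg_sub]
    exact neg_mem h
  have hLJ : L = 0 := by
    have : L ∈ ⨅ q, a q := (Submodule.mem_iInf _).2 fun q => by
      rw [← iInf_sup_pow (a q)]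
      refine (Submodule.mem_iInf _).2 fun j => ?_
      have h := hz j
      change z j ∈ _ ⊔ _ at h
      rw [hQ (n + j) (max (Q (n + j)) q) (le_max_left _ _)] at h
      rw [show L = z j + (L - z j) by ring]
      exact add_mem (sup_le_sup (ha (le_max_right _ _)) (Ideal.pow_le_pow_right (Nat.le_add_left j n)) h)
        (Ideal.mem_sup_right (hL' j))
    rwa [h0, Ideal.mem_bot] at this
  rw [show x = -((L - z n) + (z n - z 0)) by simp [z, hLJ]]
  exact neg_mem (add_mem (hL' n) (by simpa using hcau (Nat.zero_le n)))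

/-- Symbolic powers of a one-dimensional prime of a complete domain. -/
theorem exists_symbolic_le [IsDomain A] [IsAdicComplete (maximalIdeal A) A] (p : Ideal A) [p.IsPrime]
    (hp : ringKrullDim (A ⧸ p) = 1) (n : ℕ) : ∃ m : ℕ, n ≤ m ∧
      ((Ideal.map (algebraMap A (Localization.AtPrime p)) p) ^ m).comap (algebraMap A (Localization.AtPrime p)) ≤ p ^ n := by
  let L := Localization.AtPrime p
  let a : ℕ → Ideal A := fun q => ((Ideal.map (algebraMap A L) p) ^ q).comap (algebraMap A L)
  have ha : Antitone a := fun q q' h => Ideal.comap_mono (Ideal.pow_le_pow_right h)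
  have h0 : ⨅ q, a q = ⊥ := by
    rw [← Ideal.comap_iInf, Localization.AtPrime.map_eq_maximalIdeal, Ideal.iInf_pow_eq_bot_of_isLocalRing _
      (maximalIdeal.isMaximal L).ne_top, ← RingHom.ker_eq_comap_bot]
    exact (RingHom.injective_iff_ker_eq_bot _).1 (IsLocalization.injective L p.primeCompl_le_nonZeroDivisors)
  -- in `A ⧸ p ^ n` the symbolic power is killed by a power of the maximal ideal
  obtain ⟨s, hs, hsp⟩ : ∃ s ∉ p, ∀ x ∈ a n, s * x ∈ p ^ n := by
    obtain ⟨gs, hgs⟩ := (IsNoetherian.noetherian (a n) : (a n).FG)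
    have hloc : ∀ x ∈ a n, ∃ s ∉ p, s * x ∈ p ^ n := fun x hx => by
      rw [Ideal.mem_comap, ← Ideal.map_pow] at hx
      obtain ⟨s, hs, h⟩ := (IsLocalization.algebraMap_mem_map_algebraMap_iff p.primeCompl L (p ^ n) x).1 hx
      exact ⟨s, hs, h⟩
    choose! s hs hsx using hloc
    refine ⟨∏ y ∈ gs, s y, fun h => ?_, fun x hx => ?_⟩
    · obtain ⟨y, hy, hy'⟩ := (Ideal.IsPrime.prod_mem_iff (hp := ‹p.IsPrime›)).1 h
      exact hs y (hgs ▸ Submodule.subset_span hy) hy'
    · induction (hgs ▸ hx : x ∈ Submodule.span A (gs : Set A)) using Submodule.span_induction with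
      | mem y hy =>
        obtain ⟨d, hd⟩ := Finset.dvd_prod_of_mem s hy
        rw [hd, mul_right_comm]
        exact Ideal.mul_mem_right _ _ (hsx y (hgs ▸ Submodule.subset_span hy))
      | zero => rw [mul_zero]; exact zero_mem _
      | add y z hy hz hy' hz' => rw [mul_add]; exact add_mem (hy' (hgs ▸ hy)) (hz' (hgs ▸ hz))
      | smul c y hy hy' => rw [smul_eq_mul, mul_left_comm]; exact Ideal.mul_mem_left _ _ (hy' (hgs ▸ hy))
  -- `p + (s)` is primary for the maximal ideal
  have hrad : maximalIdeal A ≤ (p ⊔ Ideal.span {s}).radical := by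
    rw [Ideal.radical_eq_sInf]
    refine le_sInf fun q ⟨hq, hqp⟩ => ?_
    by_contra hqm
    have hpq : p < q := lt_of_le_not_ge (le_sup_left.trans hq) fun h => hs (h (hq (Ideal.mem_sup_right (Ideal.mem_span_singleton_self s))))
    rw [ringKrullDim_quotient] at hp
    let l : LTSeries (PrimeSpectrum.zeroLocus (R := A) (p : Set A)) :=
      ((RelSeries.singleton _ (⟨⟨p, inferInstance⟩, show p ≤ p from le_rfl⟩ : PrimeSpectrum.zeroLocus (R := A) _)).snoc
        ⟨⟨q, hqp⟩, hpq.le⟩ hpq).snoc ⟨⟨maximalIdeal A, inferInstance⟩, le_maximalIdeal (Ideal.IsPrime.ne_top ‹_›)⟩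
        (by simp only [RelSeries.last_snoc]; exact lt_of_le_not_ge (le_maximalIdeal hqp.ne_top) hqm)
    have := Order.LTSeries.length_le_krullDim l
    rw [hp] at this
    simp [l] at this
  obtain ⟨N, hN⟩ := Ideal.exists_pow_le_of_le_radical_of_fg hrad (IsNoetherian.noetherian _)
  have hann : ∀ x ∈ a n, ∀ c ∈ maximalIdeal A ^ (N * (n + 1)), c * x ∈ p ^ n := fun x hx c hc => by
    rw [pow_mul] at hc
    obtain ⟨c1, h1, c2, h2, rfl⟩ := Submodule.mem_sup.1 (Ideal.sup_pow_add_le_pow_sup_pow (Ideal.pow_right_mono hN (n + 1) hc))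
    rw [add_mul]
    refine add_mem (Ideal.mul_mem_right _ _ h1) ?_
    rw [pow_one] at h2
    obtain ⟨d, rfl⟩ := Ideal.mem_span_singleton.1 h2
    rw [mul_right_comm]
    exact Ideal.mul_mem_right _ _ (hsp x hx)
  -- Artin–Rees
  let T : Submodule A (A ⧸ p ^ n) := Submodule.map (p ^ n).mkQ (a n)
  obtain ⟨k, hk⟩ := (maximalIdeal A).exists_pow_inf_eq_pow_smul T
  let J := N * (n + 1) + k
  obtain ⟨q, hq⟩ := exists_le_pow a ha h0 J
  refine ⟨max n q, le_max_left _ _, fun x hx => ?_⟩
  have hxn : x ∈ a n := ha (le_max_left n q) hx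
  refine (Submodule.Quotient.mk_eq_zero (p ^ n)).1 ?_
  have hmem : (Submodule.Quotient.mk x : A ⧸ p ^ n) ∈ maximalIdeal A ^ J • (⊤ : Submodule A (A ⧸ p ^ n)) ⊓ T := by
    refine ⟨?_, x, hxn, rfl⟩
    have := Submodule.smul_mem_smul (hq (ha (le_max_right n q) hx)) (Submodule.mem_top (x := (Submodule.Quotient.mk 1 : A ⧸ p ^ n)))
    rwa [← Submodule.Quotient.mk_smul, smul_eq_mul, mul_one] at this
  rw [hk J (Nat.le_add_left k _), Nat.add_sub_cancel] at hmem
  refine Submodule.smul_induction_on hmem (fun c hc y hy => ?_) fun u v hu hv => by rw [hu, hv, add_zero]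
  obtain ⟨y', hy', rfl⟩ := hy.2
  show c • Submodule.Quotient.mk y' = 0
  rw [← Submodule.Quotient.mk_smul, Submodule.Quotient.mk_eq_zero, smul_eq_mul]
  exact hann y' hy' c hc

end Groth.Agent.HLV27
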