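import Groth.Agent.Lib.HLV27.NonVan

/-!
# Associated primes of the dual of top local cohomology
-/

set_option autoImplicit false
universe u

open CategoryTheory IsLocalRing
open Groth.Agent.LocCohLib Groth.Agent.InjHullLib

noncomputable section

namespace Groth.Agent.HLV27

variable {R : Type u} [CommRing R] [IsLocalRing R] [IsNoetherianRing R]
  {E : Type u} [AddCommGroup E] [Module R E]

/-- Functionals killed by `p` descend to `M ⧸ p M`. -/
theorem exists_descend (I : Ideal R) (M : Type u) [AddCommGroup M] [Module R M] [Module.Finite R M] (n : ℕ)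
    (hn : Module.supportDim R M ≤ n) (p : Ideal R) (φ : LocCoh.H I n M →ₗ[R] E) (hφ : ∀ a ∈ p, a • φ = 0) :
    ∃ χ : LocCoh.H I n (M ⧸ p • (⊤ : Submodule R M)) →ₗ[R] E, χ ∘ₗ hmap I n (p • (⊤ : Submodule R M)).mkQ = φ := by
  classical
  let N := p • (⊤ : Submodule R M)
  have hcd : ∀ (X : Type u) [AddCommGroup X] [Module R X] [Module.Finite R X],
      Module.support R X ⊆ Module.support R M → Subsingleton (LocCoh.H I (n + 1) X) := fun X _ _ _ hX => by
    refine subsingleton_of_supportDim_lt I X (n + 1) (lt_of_le_of_lt ((?_ : _ ≤ Module.supportDim R M).trans hn) ?_)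
    · exact Order.krullDim_le_of_strictMono (fun x => ⟨x.1, hX x.2⟩) fun _ _ h => h
    · exact_mod_cast n.lt_succ_self
  obtain ⟨r, a, ha⟩ := Submodule.fg_iff_exists_fin_generating_family.1 (IsNoetherian.noetherian p)
  have hap : ∀ j, a j ∈ p := fun j => ha ▸ Submodule.subset_span ⟨j, rfl⟩
  let ρ : (Fin r → M) →ₗ[R] N := (∑ j, a j • LinearMap.proj j).codRestrict N fun v => by
    rw [LinearMap.sum_apply]
    exact Submodule.sum_mem _ fun j _ => Submodule.smul_mem_smul (hap j) Submodule.mem_top
  have hρ : Function.Surjective ρ := by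
    suffices h : N ≤ LinearMap.range (∑ j, a j • LinearMap.proj (R := R) (φ := fun _ : Fin r => M) j) by
      rintro ⟨x, hx⟩
      obtain ⟨v, hv⟩ := h hx
      exact ⟨v, Subtype.ext hv⟩
    refine Submodule.smul_le.2 fun c hc m _ => ?_
    obtain ⟨w, rfl⟩ := (Submodule.mem_span_range_iff_exists_fun R).1 (ha.symm ▸ hc : c ∈ Submodule.span R (Set.range a))
    refine ⟨fun j => w j • m, ?_⟩
    rw [LinearMap.sum_apply, Finset.sum_smul]
    refine Finset.sum_congr rfl fun j _ => ?_
    rw [LinearMap.smul_apply, LinearMap.proj_apply, smul_smul, smul_eq_mul, mul_comm]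
  have hsuppN : Module.support R N ⊆ Module.support R M :=
    Module.support_subset_of_injective N.subtype N.injective_subtype
  haveI : Subsingleton (LocCoh.H I (n + 1) (LinearMap.ker ρ)) := hcd _
    ((Module.support_subset_of_injective _ (LinearMap.ker ρ).injective_subtype).trans (by
      intro q hq
      rw [Module.mem_support_iff_of_finite] at hq ⊢
      refine le_trans (fun c hc => ?_) hq
      rw [Module.mem_annihilator] at hc ⊢
      exact fun v => funext fun j => hc (v j)))
  have hsur : Function.Surjective (hmap I n ρ) :=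
    hmap_g_surjective I (LinearMap.ker ρ).injective_subtype hρ (LinearMap.exact_subtype_ker_map ρ) n inferInstance
  have hzero : ∀ z, φ (hmap I n N.subtype z) = 0 := fun z => by
    obtain ⟨y, rfl⟩ := hsur z
    rw [← LinearMap.comp_apply (hmap I n N.subtype), ← hmap_comp,
      show N.subtype ∘ₗ ρ = ∑ j, a j • LinearMap.proj (R := R) (φ := fun _ : Fin r => M) j from rfl]
    have : ∀ t : Finset (Fin r), φ (hmap I n (∑ j ∈ t, a j • LinearMap.proj (R := R) (φ := fun _ : Fin r => M) j) y) = 0 := by
      intro t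
      induction t using Finset.induction_on with
      | empty =>
        rw [Finset.sum_empty, ← zero_smul R (0 : (Fin r → M) →ₗ[R] M), hmap_smul, zero_smul]
        exact map_zero _
      | insert j t hj ih =>
        rw [Finset.sum_insert hj, hmap_add, LinearMap.add_apply, map_add, ih, add_zero, hmap_smul, LinearMap.smul_apply,
          map_smul]
        exact LinearMap.congr_fun (hφ (a j) (hap j)) _
    exact this Finset.univ
  have hg : Function.Surjective (hmap I n N.mkQ) :=
    hmap_g_surjective I N.injective_subtype N.mkQ_surjective (LinearMap.exact_subtype_mkQ N) n (hcd _ hsuppN)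
  have hle : LinearMap.ker (hmap I n N.mkQ) ≤ LinearMap.ker φ := fun x hx => by
    obtain ⟨z, rfl⟩ := (exact_map_map I n (shortExact_mk N.subtype N.mkQ N.injective_subtype N.mkQ_surjective
      (LinearMap.exact_subtype_mkQ N)) x).1 hx
    exact hzero z
  refine ⟨(LinearMap.ker (hmap I n N.mkQ)).liftQ φ hle ∘ₗ
    ((hmap I n N.mkQ).quotKerEquivOfSurjective hg).symm.toLinearMap, LinearMap.ext fun x => ?_⟩
  show (LinearMap.ker (hmap I n N.mkQ)).liftQ φ hle
    (((hmap I n N.mkQ).quotKerEquivOfSurjective hg).symm (hmap I n N.mkQ x)) = φ x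
  rw [show ((hmap I n N.mkQ).quotKerEquivOfSurjective hg).symm (hmap I n N.mkQ x) = Submodule.Quotient.mk x from
    (LinearEquiv.symm_apply_eq _).2 (by simp)]
  rfl

/-- The associated primes of the dual of top local cohomology over a complete ring. -/
theorem associatedPrimes_dual [IsAdicComplete (maximalIdeal R) R] {f : ResidueField R →ₗ[R] E}
    (hf : InjHull.IsInjectiveHull f) (I : Ideal R) (M : Type u) [AddCommGroup M] [Module R M] [Module.Finite R M]
    (n : ℕ) (hn : Module.supportDim R M = n) :
    associatedPrimes R (LocCoh.H I n M →ₗ[R] E) = {p : Ideal R | p.IsPrime ∧ Module.annihilator R M ≤ p ∧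
      ringKrullDim (R ⧸ p) = n ∧ (I ⊔ p).radical = maximalIdeal R} := by
  have hMp : ∀ (p : Ideal R), ∀ a ∈ p, ∀ x : M ⧸ p • (⊤ : Submodule R M), a • x = 0 := fun p a ha x => by
    obtain ⟨m, rfl⟩ := Submodule.Quotient.mk_surjective _ x
    rw [← Submodule.Quotient.mk_smul, Submodule.Quotient.mk_eq_zero]
    exact Submodule.smul_mem_smul ha Submodule.mem_top
  have hdim : ∀ (p : Ideal R) [p.IsPrime], Module.annihilator R M ≤ p → ringKrullDim (R ⧸ p) = n →
      Module.supportDim R (M ⧸ p • (⊤ : Submodule R M)) = n := fun p _ hp hpd =>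
    le_antisymm ((Module.supportDim_le_of_surjective _ (Submodule.mkQ_surjective _)).trans hn.le) (hpd.ge.trans
      (DepthLib.ringKrullDim_quotient_le_supportDim_quotient (p := p)
        (by rw [Module.support_eq_zeroLocus, PrimeSpectrum.mem_zeroLocus]; exact hp) le_rfl))
  ext p
  constructor
  · intro hp
    haveI := hp.isPrime
    obtain ⟨h1, h2⟩ := CanonModLib.associatedPrime_dual_top M hn I hp
    refine ⟨inferInstance, h1, h2, ?_⟩
    obtain ⟨_, φ, hφ⟩ := isAssociatedPrime_iff.1 hp
    have hkill : ∀ a ∈ p, a • φ = 0 := fun a ha => by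
      rw [hφ, Submodule.mem_colon_singleton, Submodule.mem_bot] at ha
      exact ha
    obtain ⟨χ, hχ⟩ := exists_descend I M n hn.le p φ hkill
    have hne : ¬ Subsingleton (LocCoh.H I n (M ⧸ p • (⊤ : Submodule R M))) := fun h => by
      refine hp.isPrime.ne_top (top_le_iff.1 fun r _ => ?_)
      rw [hφ, Submodule.mem_colon_singleton, Submodule.mem_bot, ← hχ]
      exact LinearMap.ext fun x => by rw [LinearMap.smul_apply, LinearMap.comp_apply, h.elim (hmap I n _ x) 0, map_zero, smul_zero]; rfl
    by_cases hI : I ≤ maximalIdeal R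
    swap
    · exfalso
      refine hne ?_
      obtain ⟨y, hy, hym⟩ := SetLike.not_le_iff_exists.1 hI
      have hu : IsUnit y := not_not.1 fun hn => hym ((mem_maximalIdeal y).2 hn)
      refine subsingleton_of_forall_eq 0 fun x => ?_
      obtain ⟨m, hm⟩ := isPowerTorsion I n _ x
      exact (hu.pow m).smul_eq_zero.1 (hm _ (Ideal.pow_mem_pow hy m))
    refine le_antisymm ((Ideal.radical_mono (sup_le hI (le_maximalIdeal hp.isPrime.ne_top))).trans
      (maximalIdeal.isMaximal R).isPrime.radical.le) ?_
    rw [Ideal.radical_eq_sInf]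
    refine le_sInf fun q ⟨hq, hqp⟩ => ?_
    by_contra hqm
    refine hne (subsingleton_H_top I _ n ((Module.supportDim_le_of_surjective _ (Submodule.mkQ_surjective _)).trans hn.le)
      fun r hr hrd => ?_)
    have hpr : p ≤ r.asIdeal := by
      rw [Module.support_eq_zeroLocus, PrimeSpectrum.mem_zeroLocus] at hr
      exact fun a ha => hr (Module.mem_annihilator.2 (hMp p a ha))
    have hrp : r.asIdeal ≤ p := CanonModLib.le_of_le_of_coheight M hn h1 hpr hrd
    exact ⟨⟨q, hqp⟩, sup_le (le_sup_left.trans hq) ((hrp.trans le_sup_right).trans hq),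
      fun h => hqm h.ge⟩
  · rintro ⟨hp, h1, h2, h3⟩
    haveI := hp
    haveI hnt := nontrivial_H_of_radical_eq (I := I) (P := p) h3.ge ((le_sup_left.trans Ideal.le_radical).trans h3.le)
      (M ⧸ p • (⊤ : Submodule R M)) (hMp p) n (hdim p h1 h2)
    obtain ⟨z, hz⟩ := exists_ne (0 : LocCoh.H I n (M ⧸ p • (⊤ : Submodule R M)))
    obtain ⟨χ, hχ⟩ := exists_dual_ne_zero hf hz
    let φ := χ ∘ₗ hmap I n (p • (⊤ : Submodule R M)).mkQ
    have hφp : ∀ a ∈ p, a • φ = 0 := fun a ha => LinearMap.ext fun x => by
      show a • χ _ = 0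
      rw [← map_smul, Module.mem_annihilator.1 (CanonModLib.annihilator_le_annihilator_H _ I n
        (Module.mem_annihilator.2 (hMp p a ha))), map_zero]
    have hφ : φ ≠ 0 := fun h => by
      obtain ⟨x, rfl⟩ := hmap_g_surjective I (p • (⊤ : Submodule R M)).injective_subtype (Submodule.mkQ_surjective _)
        (LinearMap.exact_subtype_mkQ _) n (subsingleton_of_supportDim_lt I _ (n + 1) (lt_of_le_of_lt
          ((Module.supportDim_le_of_injective _ (Submodule.injective_subtype _)).trans hn.le)
          (by exact_mod_cast n.lt_succ_self))) z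
      exact hχ (LinearMap.congr_fun h x)
    obtain ⟨Q, hQ, hle⟩ := exists_le_isAssociatedPrime_of_isNoetherianRing R φ hφ
    haveI := hQ.isPrime
    obtain ⟨h4, h5⟩ := CanonModLib.associatedPrime_dual_top M hn I hQ
    have hpQ : p ≤ Q := fun a ha => hle (by rw [Submodule.mem_colon_singleton, Submodule.mem_bot]; exact hφp a ha)
    rwa [le_antisymm hpQ (CanonModLib.le_of_le_of_coheight M hn h1 hpQ h5)]

end Groth.Agent.HLV27
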