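import Groth.Agent.Lib.HLV27.Att
import Groth.Agent.Lib.CanonMod.Completion27
import Groth.Agent.Lib.LocCoh.TopArtinian
import Groth.Agent.Lib.LocCoh.ExtCompare
import Groth.Agent.S0315
import Groth.Agent.S0317

/-!
# Cofiniteness of top local cohomology
-/

set_option autoImplicit false
universe u

open IsLocalRing TensorProduct CategoryTheory Opposite
open Groth.Agent.LocCohLib Groth.Agent.InjHullLib
open Groth.Agent.CplLocH7

noncomputable section

namespace Groth.Agent.HLV27

variable {R : Type u} [CommRing R] [IsLocalRing R] [IsNoetherianRing R]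

/-- Over a complete ring `I + ann H^n_I(M)` is primary for the maximal ideal. -/
theorem maximalIdeal_le_radical_sup_annihilator [IsAdicComplete (maximalIdeal R) R] (I : Ideal R) (M : Type u)
    [AddCommGroup M] [Module R M] [Module.Finite R M] (n : ℕ) (hn : Module.supportDim R M = n) :
    maximalIdeal R ≤ (I ⊔ Module.annihilator R (LocCoh.H I n M)).radical := by
  obtain ⟨E, _, _, f, hf⟩ := exists_injective_hull R (ResidueField R)
  haveI := isArtinian_H_top I n M hn.le
  haveI := (S0317.result R E f hf (LocCoh.H I n M)).1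
  rw [annihilator_dual hf, Ideal.radical_eq_sInf]
  refine le_sInf fun q ⟨hq, hqp⟩ => ?_
  haveI := hqp
  obtain ⟨p, hp, hpq⟩ := Ideal.exists_minimalPrimes_le (le_sup_right.trans hq)
  have hass := Module.associatedPrimes.minimalPrimes_annihilator_subset_associatedPrimes R (LocCoh.H I n M →ₗ[R] E) hp
  rw [associatedPrimes_dual hf I M n hn] at hass
  obtain ⟨-, -, -, hrad⟩ := hass
  rw [← hrad]
  exact (Ideal.IsPrime.radical_le_iff hqp).2 (sup_le (le_sup_left.trans hq) hpq)

/-- A power of the maximal ideal acts on `H^n_I(M)` through `I • End`. -/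
theorem exists_pow_smul_id_mem (I : Ideal R) (M : Type u) [AddCommGroup M] [Module R M] [Module.Finite R M] (n : ℕ)
    (hn : Module.supportDim R M = n) : ∃ N : ℕ, ∀ c ∈ maximalIdeal R ^ N,
      c • (LinearMap.id : LocCoh.H I n M →ₗ[R] LocCoh.H I n M) ∈
        I • (⊤ : Submodule R (LocCoh.H I n M →ₗ[R] LocCoh.H I n M)) := by
  haveI := faithfullyFlat_cpl (A := R)
  haveI := isArtinian_H_top I n M hn.le
  haveI : Nontrivial M := by
    by_contra h
    rw [not_nontrivial_iff_subsingleton] at h
    rw [(Module.supportDim_eq_bot_iff_subsingleton (R := R) (M := M)).2 h] at hn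
    exact WithBot.bot_ne_natCast n hn
  let H := LocCoh.H I n M
  let I' := I.map (algebraMap R (Cpl R))
  let j : H →ₗ[R] Cpl R ⊗[R] H := TensorProduct.mk R (Cpl R) H 1
  have hj : Function.Bijective j := S5158.result R H ((S0315.result R H).1 inferInstance).1
  let je := LinearEquiv.ofBijective j hj
  have hdim : Module.supportDim (Cpl R) (Cpl R ⊗[R] M) = n := by
    rw [FlatDepth.supportDim_tensor (R := R) (S := Cpl R) (N := Cpl R) M, hn,
      Module.supportDim_eq_of_equiv (FlatDepth.tensorQuotEquiv (Cpl R) (maximalIdeal R) ≪≫ₗ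
        Submodule.quotEquivOfEq _ (maximalIdeal (Cpl R)) (by simp [← maximalIdeal_cpl])),
      Module.supportDim_quotient_eq_ringKrullDim, ringKrullDim_eq_zero_of_isField
        ((Ideal.Quotient.maximal_ideal_iff_isField_quotient _).1 inferInstance), add_zero]
  obtain ⟨e⟩ := nonempty_baseChange_H (R' := Cpl R) I n M
  obtain ⟨N, hN⟩ := Ideal.exists_pow_le_of_le_radical_of_fg
    (maximalIdeal_le_radical_sup_annihilator I' _ n hdim) (IsNoetherian.noetherian _)
  -- the action of the completion
  let φ : Cpl R →ₗ[R] (H →ₗ[R] H) :=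
    { toFun := fun r => je.symm.toLinearMap ∘ₗ
        (DistribSMul.toLinearMap R (Cpl R ⊗[R] H) r) ∘ₗ je.toLinearMap
      map_add' := fun r s => LinearMap.ext fun x => by
        simp [add_smul]
      map_smul' := fun c r => LinearMap.ext fun x => by
        simp [smul_assoc] }
  refine ⟨N, fun c hc => ?_⟩
  have hc' : algebraMap R (Cpl R) c ∈ maximalIdeal (Cpl R) ^ N := by
    rw [maximalIdeal_cpl, ← Ideal.map_pow]
    exact Ideal.mem_map_of_mem _ hc
  obtain ⟨a, ha, b, hb, hab⟩ := Submodule.mem_sup.1 (hN hc')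
  have h1 : φ (algebraMap R (Cpl R) c) = c • LinearMap.id := LinearMap.ext fun x => by
    simp [φ, algebraMap_smul]
  have h2 : φ b = 0 := LinearMap.ext fun x => by
    have : b • je x = 0 := e.injective (by rw [map_smul, Module.mem_annihilator.1 hb, map_zero])
    simp [φ, this]
  have h3 : φ a ∈ I • (⊤ : Submodule R (H →ₗ[R] H)) := by
    have : a ∈ (I • ⊤ : Submodule R (Cpl R)) := by rw [Ideal.smul_top_eq_map]; exact ha
    refine Submodule.smul_induction_on this (fun r hr y _ => ?_) fun y z hy hz => by rw [map_add]; exact add_mem hy hz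
    rw [map_smul]
    exact Submodule.smul_mem_smul hr Submodule.mem_top
  rw [← h1, ← hab, map_add, h2, add_zero]
  exact h3

omit [IsLocalRing R] in
/-- `Ext` of finite modules into Artinian modules is Artinian. -/
theorem isArtinian_ext (H : ModuleCat.{u} R) [IsArtinian R H] (i : ℕ) :
    ∀ (X : ModuleCat.{u} R), Module.Finite R X → IsArtinian R (Abelian.Ext X H i) := by
  induction i with
  | zero =>
    intro X hX
    obtain ⟨r, x, hx⟩ := Module.Finite.exists_fin (R := R) (M := X)
    let ι : (X →ₗ[R] H) →ₗ[R] (Fin r → H) := LinearMap.pi fun i => LinearMap.applyₗ (x i)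
    haveI : IsArtinian R (X →ₗ[R] H) :=
      isArtinian_of_injective ι fun a b h => LinearMap.ext_on_range hx fun i => congrFun h i
    exact isArtinian_of_linearEquiv ((Abelian.Ext.linearEquiv₀ (R := R)).trans (ModuleCat.homLinearEquiv (S := R))).symm
  | succ i ih =>
    intro X hX
    obtain ⟨r, g, hg⟩ := Module.Finite.exists_fin' R X
    let S : ShortComplex (ModuleCat.{u} R) := ShortComplex.mk (X₁ := ModuleCat.of R (LinearMap.ker g))
      (X₂ := ModuleCat.of R (Fin r → R)) (X₃ := X) (ModuleCat.ofHom (LinearMap.ker g).subtype)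
      (ModuleCat.ofHom g) (by ext x; exact x.2)
    have hS : S.ShortExact :=
      LocCohLib.shortExact_mk (LinearMap.ker g).subtype g (Submodule.injective_subtype _) hg (LinearMap.exact_subtype_ker_map g)
    haveI := ih S.X₁ (inferInstanceAs (Module.Finite R (LinearMap.ker g)))
    haveI : Projective S.X₂ := (IsProjective.iff_projective (Fin r → R)).1 inferInstance
    refine isArtinian_of_surjective (M := Abelian.Ext S.X₁ H i) (f := Abelian.Ext.precompOfLinear hS.extClass R H (add_comm 1 i)) fun y => ?_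
    obtain ⟨z, hz⟩ := Abelian.Ext.contravariant_sequence_exact₃ hS H y (Abelian.Ext.eq_zero_of_projective _)
      (add_comm 1 i)
    exact ⟨z, hz⟩

theorem isFiniteLength_of_killed {X : Type u} [AddCommGroup X] [Module R X] [IsArtinian R X] (N : ℕ)
    (h : ∀ c ∈ maximalIdeal R ^ N, ∀ x : X, c • x = 0) : IsFiniteLength R X := by
  let B := R ⧸ maximalIdeal R ^ N
  have ht : Module.IsTorsionBySet R X (maximalIdeal R ^ N : Ideal R) := fun x a => h a.1 a.2 x
  letI : Module B X := ht.module
  haveI : IsScalarTower R B X := ht.isScalarTower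
  haveI : IsArtinian B X := isArtinian_of_tower R inferInstance
  haveI : IsArtinianRing B :=
    isArtinian_of_tower R (isFiniteLength_iff_isNoetherian_isArtinian.1 (isFiniteLength_quotient (le_refl _))).2
  haveI : IsNoetherian B X := IsSemiprimaryRing.isNoetherian_iff_isArtinian.2 inferInstance
  exact isFiniteLength_iff_isNoetherian_isArtinian.2
    ⟨(haveI : Module.Finite R X := Module.Finite.trans B X; inferInstance), inferInstance⟩


/-- `H^n_I(M)` is `I`-cofinite for `n = dim M`. -/
theorem isFiniteLength_ext (I : Ideal R) (M : Type u) [AddCommGroup M] [Module R M] [Module.Finite R M] (n : ℕ)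
    (hn : Module.supportDim R M = n) (i : ℕ) : IsFiniteLength R
      (Abelian.Ext (ModuleCat.of R (R ⧸ I)) (ModuleCat.of R (LocCoh.H I n M)) i) := by
  let X := ModuleCat.of R (R ⧸ I)
  let H := ModuleCat.of R (LocCoh.H I n M)
  haveI : IsArtinian R H := isArtinian_H_top I n M hn.le
  haveI := isArtinian_ext H i X (inferInstanceAs (Module.Finite R (R ⧸ I)))
  obtain ⟨N, hN⟩ := exists_pow_smul_id_mem I M n hn
  have hI : ∀ a ∈ I, ∀ α : Abelian.Ext X H i, a • α = 0 := fun a ha α => by
    have h : a • 𝟙 X = 0 := ModuleCat.hom_ext (LinearMap.ext fun x => by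
      obtain ⟨y, rfl⟩ := Ideal.Quotient.mk_surjective x
      show a • Ideal.Quotient.mk I y = 0
      rw [← Ideal.Quotient.mk_eq_mk, ← Submodule.Quotient.mk_smul, Submodule.Quotient.mk_eq_zero]
      exact I.mul_mem_right y ha)
    rw [← Abelian.Ext.mk₀_id_comp α, ← Abelian.Ext.smul_comp, ← Abelian.Ext.mk₀_smul, h, Abelian.Ext.mk₀_zero,
      Abelian.Ext.zero_comp]
  have hkill : ∀ c ∈ maximalIdeal R ^ N, ∀ α : Abelian.Ext X H i, c • α = 0 := fun c hc α => by
    have key : ∀ φ ∈ I • (⊤ : Submodule R (H →ₗ[R] H)),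
        α.comp (Abelian.Ext.mk₀ (ModuleCat.ofHom φ)) (add_zero i) = 0 := fun φ hφ => by
      refine Submodule.smul_induction_on hφ (fun a ha ψ _ => ?_) fun φ ψ h1 h2 => ?_
      · rw [show ModuleCat.ofHom (a • ψ) = a • ModuleCat.ofHom ψ from rfl, Abelian.Ext.mk₀_smul, Abelian.Ext.comp_smul]
        exact hI a ha _
      · rw [show ModuleCat.ofHom (φ + ψ) = ModuleCat.ofHom φ + ModuleCat.ofHom ψ from rfl, Abelian.Ext.mk₀_add,
          Abelian.Ext.comp_add, h1, h2, add_zero]
    have h := key _ (hN c hc)
    rwa [show ModuleCat.ofHom (c • (LinearMap.id : H →ₗ[R] H)) = c • 𝟙 H from rfl, Abelian.Ext.mk₀_smul,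
      Abelian.Ext.comp_smul, Abelian.Ext.comp_mk₀_id] at h
  exact isFiniteLength_of_killed N hkill

end Groth.Agent.HLV27
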