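import Groth.Agent.Lib.Goren.LocalDuality27
import Groth.Agent.Lib.CanonMod.TopDual27
import Groth.Agent.Lib.LocCoh.LocalVanish27
import Groth.Agent.Lib.InjHull.Duality
import Groth.Agent.Lib.Depth.CM

/-!
# Vanishing of top local cohomology over a complete Gorenstein local ring
-/

set_option autoImplicit false
universe u

open CategoryTheory IsLocalRing Opposite
open Groth.Agent.LocCohLib Groth.Agent.InjHullLib

noncomputable section

namespace Groth.Agent.HLV27

/-- Top local cohomology at `m` maps onto top local cohomology at a prime. -/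
theorem surjective_cmp_maximal {R : Type u} [CommRing R] [IsLocalRing R] [IsNoetherianRing R] {n : ℕ}
    (hn : ringKrullDim R = n) {q : Ideal R} (hq : q ≤ maximalIdeal R) (M : Type u) [AddCommGroup M] [Module R M]
    [Module.Finite R M] : Function.Surjective (cmpLE hq n M) := by
  refine surjective_cmpLE_of_local M n hq fun p _ hp => ?_
  have hlt : p.asIdeal < maximalIdeal R := lt_of_le_not_ge (le_maximalIdeal p.isPrime.ne_top) hp
  have h1 : p.asIdeal.height < (n : ℕ∞) := by
    have h2 := Ideal.height_strict_mono_of_isPrime hlt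
    have h3 : ((maximalIdeal R).height : WithBot ℕ∞) = n := by rw [IsLocalRing.maximalIdeal_height_eq_ringKrullDim, hn]
    rwa [show (maximalIdeal R).height = (n : ℕ∞) from WithBot.coe_injective h3] at h2
  refine subsingleton_of_supportDim_lt _ _ _ (lt_of_le_of_lt (Module.supportDim_le_ringKrullDim _ _) ?_)
  rw [IsLocalization.AtPrime.ringKrullDim_eq_height p.asIdeal]
  exact_mod_cast h1

section Gorenstein

variable {B : Type u} [CommRing B] [LocCoh.IsGorensteinLocalRing B] {n : ℕ}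

/-- A class of `H^n_m(B)` killed by `G` dies in `H^n_q(B)` if `q ^ k ≤ G` and `B ⧸ G` has depth. -/
theorem cmp_eq_zero_of_killed (hn : ringKrullDim B = n) (hn0 : 0 < n) {q G : Ideal B} (hq : q ≤ maximalIdeal B) (k : ℕ)
    (hqG : q ^ k ≤ G) (hG : powTors (maximalIdeal B) (B ⧸ G) = ⊥)
    (y : LocCoh.H (maximalIdeal B) n B) (hy : ∀ a ∈ G, a • y = 0) : cmpLE hq n B y = 0 := by
  classical
  obtain ⟨g, hg⟩ := GorenLib.exists_isInjectiveHull_H (R := B) hn
  obtain ⟨D⟩ := GorenLib.exists_dualityData hn hg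
  have hzero : ∀ (N : Type u) [AddCommGroup N] [Module B N] [Module.Finite B N] (j : ℕ), j ≤ n →
      Subsingleton (LocCoh.H (maximalIdeal B) (n - j) N) →
      Subsingleton (Abelian.Ext (ModuleCat.of B N) (ModuleCat.of B B) j) := by
    intro N _ _ _ j hj h
    obtain ⟨e⟩ := D.duality j N hj
    haveI := e.toEquiv.subsingleton
    refine subsingleton_of_forall_eq 0 fun x => ?_
    by_contra hx
    obtain ⟨φ, hφ⟩ := exists_dual_ne_zero hg hx
    exact hφ (by rw [Subsingleton.elim φ 0]; rfl)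
  have hExtG : Subsingleton (Abelian.Ext (ModuleCat.of B (B ⧸ G)) (ModuleCat.of B B) n) := by
    refine hzero (B ⧸ G) n le_rfl ?_
    rw [Nat.sub_self]
    haveI : Subsingleton (powTors (maximalIdeal B) (B ⧸ G)) := by rw [hG]; infer_instance
    exact (zeroEquiv (maximalIdeal B) (B ⧸ G)).toEquiv.subsingleton
  obtain ⟨l, hl, η, rfl⟩ := exists_ι_le (maximalIdeal B) n (ModuleCat.of B B) y k
  -- move to a stage where `G` kills the class
  obtain ⟨gs, hgs⟩ : G.FG := IsNoetherian.noetherian G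
  have hstage : ∀ a : B, ∃ (L : ℕ) (h : l ≤ L), a ∈ G →
      a • (Abelian.Ext.mk₀ (proj (maximalIdeal B) h)).comp η (zero_add n) = 0 := fun a => by
    by_cases ha : a ∈ G
    · have h0 : ι (maximalIdeal B) n (ModuleCat.of B B) l (a • η) = 0 := by rw [map_smul]; exact hy a ha
      obtain ⟨m, hm, hm0⟩ := (ι_eq_zero_iff _ _ _ _).1 h0
      exact ⟨m, hm, fun _ => by rw [← hm0, Abelian.Ext.comp_smul]⟩
    · exact ⟨l, le_rfl, fun h => absurd h ha⟩
  choose L0 hle hL0 using hstage
  let L := max l (gs.sup L0)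
  have hlL : l ≤ L := le_max_left _ _
  let η' := (Abelian.Ext.mk₀ (proj (maximalIdeal B) hlL)).comp η (zero_add n)
  have hη' : ∀ a ∈ gs, a • η' = 0 := fun a ha => by
    have haG : a ∈ G := hgs ▸ Submodule.subset_span ha
    have h1 : L0 a ≤ L := (Finset.le_sup ha).trans (le_max_right _ _)
    have e : proj (maximalIdeal B) hlL = proj (maximalIdeal B) h1 ≫ proj (maximalIdeal B) (hle a) := by
      apply ModuleCat.hom_ext
      exact Submodule.linearMap_qext _ rfl
    show a • (Abelian.Ext.mk₀ (proj (maximalIdeal B) hlL)).comp η (zero_add n) = 0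
    rw [e, ← Abelian.Ext.mk₀_comp_mk₀, Abelian.Ext.comp_assoc_of_second_deg_zero, ← Abelian.Ext.comp_smul, hL0 a haG,
      Abelian.Ext.comp_zero]
  -- descend to `B ⧸ (G ⊔ m ^ L)`
  let M0 := maximalIdeal B ^ L
  let J : Ideal B := G ⊔ M0
  let π0 : (B ⧸ M0) →ₗ[B] B ⧸ J := Submodule.mapQ M0 J LinearMap.id le_sup_right
  have hπ0 : Function.Surjective π0 := fun x => by
    obtain ⟨b, rfl⟩ := Submodule.Quotient.mk_surjective _ x
    exact ⟨Submodule.Quotient.mk b, rfl⟩
  let Kr := LinearMap.ker π0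
  have hS := shortExact_mk Kr.subtype π0 Kr.injective_subtype hπ0 (LinearMap.exact_subtype_ker_map π0)
  let ρ : (↥gs → B ⧸ M0) →ₗ[B] Kr := (∑ a : ↥gs, (a : B) • LinearMap.proj a).codRestrict Kr fun v => by
    show π0 ((∑ a : ↥gs, (a : B) • LinearMap.proj (R := B) (φ := fun _ : ↥gs => B ⧸ M0) a) v) = 0
    rw [LinearMap.sum_apply, map_sum]
    refine Finset.sum_eq_zero fun a _ => ?_
    rw [LinearMap.smul_apply, map_smul]
    obtain ⟨b, hb⟩ := Submodule.Quotient.mk_surjective _ (π0 (LinearMap.proj (R := B) (φ := fun _ : ↥gs => B ⧸ M0) a v))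
    rw [← hb, ← Submodule.Quotient.mk_smul, Submodule.Quotient.mk_eq_zero]
    exact Ideal.mul_mem_right _ _ (Ideal.mem_sup_left (hgs ▸ Submodule.subset_span a.2))
  have hρ : Function.Surjective ρ := by
    rintro ⟨x, hx⟩
    obtain ⟨b, rfl⟩ := Submodule.Quotient.mk_surjective _ x
    have hb : b ∈ J := (Submodule.Quotient.mk_eq_zero J).1 hx
    obtain ⟨c, hc, d, hd, rfl⟩ := Submodule.mem_sup.1 hb
    obtain ⟨w, hw⟩ := Submodule.mem_span_finset'.1 (show c ∈ Submodule.span B (gs : Set B) from (SetLike.ext_iff.1 hgs c).2 hc)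
    refine ⟨fun a => Submodule.Quotient.mk (w a), Subtype.ext ?_⟩
    show (∑ a : ↥gs, (a : B) • LinearMap.proj (R := B) (φ := fun _ : ↥gs => B ⧸ M0) a) (fun a => Submodule.Quotient.mk (w a)) =
      (Submodule.Quotient.mk (c + d) : B ⧸ M0)
    rw [LinearMap.sum_apply, Submodule.Quotient.mk_add M0, (Submodule.Quotient.mk_eq_zero M0).2 hd, add_zero, ← hw]
    refine Eq.trans ?_ (map_sum (Submodule.mkQ (M0 : Submodule B B)) (fun a : ↥gs => w a • (a : B)) Finset.univ).symm
    refine Finset.sum_congr rfl fun a _ => ?_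
    show (a : B) • (Submodule.Quotient.mk (w a) : B ⧸ M0) = (Submodule.Quotient.mk (w a • (a : B)) : B ⧸ M0)
    rw [← Submodule.Quotient.mk_smul, smul_eq_mul, smul_eq_mul, mul_comm]
  have hS' := shortExact_mk (LinearMap.ker ρ).subtype ρ (LinearMap.ker ρ).injective_subtype hρ
    (LinearMap.exact_subtype_ker_map ρ)
  let η'' : Abelian.Ext (ModuleCat.of B (B ⧸ M0)) (ModuleCat.of B B) n := η'
  have hKr : (Abelian.Ext.mk₀ (ModuleCat.ofHom Kr.subtype)).comp η'' (zero_add n) = 0 := by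
    set e := (Abelian.Ext.mk₀ (ModuleCat.ofHom Kr.subtype)).comp η'' (zero_add n) with he
    have h1 : (Abelian.Ext.mk₀ (ModuleCat.ofHom ρ)).comp e (zero_add n) = 0 := by
      rw [he, Abelian.Ext.mk₀_comp_mk₀_assoc]
      have h2 : ModuleCat.ofHom ρ ≫ ModuleCat.ofHom Kr.subtype = ∑ a : ↥gs,
          ModuleCat.ofHom (LinearMap.proj (R := B) (φ := fun _ : ↥gs => B ⧸ M0) a) ≫ ((a : B) • 𝟙 (ModuleCat.of B (B ⧸ M0))) := by
        apply ModuleCat.hom_ext
        rw [ModuleCat.hom_sum]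
        rfl
      rw [h2, Abelian.Ext.mk₀_sum, Abelian.Ext.sum_comp]
      refine Finset.sum_eq_zero fun a _ => ?_
      rw [← Abelian.Ext.mk₀_comp_mk₀_assoc, ← smul_ext_eq_comp, hη' a a.2, Abelian.Ext.comp_zero]
    obtain ⟨e0, he0⟩ := Abelian.Ext.contravariant_sequence_exact₃ hS' (ModuleCat.of B B) e h1
      (n₀ := n - 1) (show 1 + (n - 1) = n by omega)
    have : Subsingleton (Abelian.Ext (ModuleCat.of B (LinearMap.ker ρ)) (ModuleCat.of B B) (n - 1)) := by
      refine hzero _ (n - 1) (Nat.sub_le _ _) ?_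
      rw [show n - (n - 1) = 0 + 1 by omega]
      refine subsingleton_of_isPowerTorsion (maximalIdeal B) 0 _ fun z => ⟨L, fun a ha => ?_⟩
      refine Subtype.ext (funext fun i => ?_)
      obtain ⟨b, hb⟩ := Submodule.Quotient.mk_surjective _ ((z : ↥gs → B ⧸ M0) i)
      show a • (z : ↥gs → B ⧸ M0) i = 0
      rw [← hb, ← Submodule.Quotient.mk_smul, Submodule.Quotient.mk_eq_zero]
      exact Ideal.mul_mem_right _ _ ha
    rw [← he0, show e0 = 0 from this.elim e0 0, Abelian.Ext.comp_zero]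
    rfl
  obtain ⟨x3, hx3⟩ := Abelian.Ext.contravariant_sequence_exact₂ hS (ModuleCat.of B B) η'' hKr
  have hkL : k ≤ L := hl.trans hlL
  have hqJ : q ^ L ≤ G := (Ideal.pow_le_pow_right hkL).trans hqG
  let φ1 : (B ⧸ q ^ L) →ₗ[B] B ⧸ G := Submodule.mapQ (q ^ L) G LinearMap.id hqJ
  let φ2 : (B ⧸ G) →ₗ[B] B ⧸ J := Submodule.mapQ G J LinearMap.id le_sup_left
  rw [← ι_proj (maximalIdeal B) n (ModuleCat.of B B) hlL η]
  show cmpLE hq n B (ι (maximalIdeal B) n (ModuleCat.of B B) L η'') = 0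
  rw [LocCohLib.cmpLE, cmpLE_ι]
  let x3' : Abelian.Ext (ModuleCat.of B (B ⧸ J)) (ModuleCat.of B B) n := x3
  have hx3' : (Abelian.Ext.mk₀ (ModuleCat.ofHom π0)).comp x3' (zero_add n) = η'' := hx3
  let qm : ModuleCat.of B (B ⧸ q ^ L) ⟶ ModuleCat.of B (B ⧸ M0) := (Dual2.quotMapOfLE hq).app (op L)
  have key : (Abelian.Ext.mk₀ qm).comp η'' (zero_add n) = 0 := by
    rw [← hx3', Abelian.Ext.mk₀_comp_mk₀_assoc,
      show qm ≫ ModuleCat.ofHom π0 = ModuleCat.ofHom φ1 ≫ ModuleCat.ofHom φ2 from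
        ModuleCat.hom_ext (Submodule.linearMap_qext _ rfl), ← Abelian.Ext.mk₀_comp_mk₀_assoc,
      show (Abelian.Ext.mk₀ (ModuleCat.ofHom φ2)).comp x3' (zero_add n) = 0 from hExtG.elim _ _, Abelian.Ext.comp_zero]
  exact (congrArg (ι q n (ModuleCat.of B B) L) key).trans (map_zero _)

/-- **Hartshorne–Lichtenbaum**, the case of a prime quotient of full dimension. -/
theorem subsingleton_H_quotient [IsAdicComplete (maximalIdeal B) B] (hn : ringKrullDim B = n) (P q : Ideal B)
    [P.IsPrime] [q.IsPrime] (hPq : P ≤ q) (hq : q ≠ maximalIdeal B) (hP : ringKrullDim (B ⧸ P) = n) :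
    Subsingleton (LocCoh.H q n (B ⧸ P)) := by
  have hqle : q ≤ maximalIdeal B := le_maximalIdeal (Ideal.IsPrime.ne_top ‹_›)
  have hn0 : 0 < n := by
    by_contra h
    obtain rfl : n = 0 := by omega
    haveI : Ring.KrullDimLE 0 B := Ring.krullDimLE_iff.2 (le_of_eq hn)
    exact hq (eq_maximalIdeal (Ideal.IsPrime.isMaximal' (I := q) ‹_›))
  obtain ⟨g, hg⟩ := GorenLib.exists_isInjectiveHull_H (R := B) hn
  have hπs : Function.Surjective (hmap q n P.mkQ) := hmap_g_surjective q P.injective_subtype P.mkQ_surjective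
    (LinearMap.exact_subtype_mkQ P) n (cdLE_of_ringKrullDim_le q hn.le P (n + 1) n.lt_succ_self)
  let f := hmap q n P.mkQ ∘ₗ cmpLE hqle n B
  have hfs : Function.Surjective f := hπs.comp (surjective_cmp_maximal hn hqle B)
  refine subsingleton_of_forall_eq 0 fun z => ?_
  by_contra hz
  obtain ⟨χ, hχ⟩ := exists_dual_ne_zero hg hz
  obtain ⟨u, hu⟩ := exists_eq_smul_id hg (χ ∘ₗ f)
  suffices hu0 : u = 0 by
    obtain ⟨x, rfl⟩ := hfs z
    exact hχ ((LinearMap.congr_fun hu x).trans (by rw [hu0, zero_smul]; rfl))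
  have hann : ∀ b : B, (∀ x, b • x = (0 : LocCoh.H (maximalIdeal B) n B)) → b = 0 := fun b hb => by
    have h1 : b ∈ ⨅ i : ℕ, maximalIdeal B ^ i := Submodule.mem_iInf _ |>.2 fun i =>
      mem_pow_of_forall_smul_eq_zero hg fun e _ => hb e
    rwa [Ideal.iInf_pow_eq_bot_of_isLocalRing _ (maximalIdeal.isMaximal B).ne_top] at h1
  have hker : ∀ y, cmpLE hqle n B y = 0 → u • y = 0 := fun y hy => by
    have h1 : χ (f y) = u • y := LinearMap.congr_fun hu y
    rw [← h1, show f y = hmap q n P.mkQ (cmpLE hqle n B y) from rfl, hy, map_zero, map_zero]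
  have hPu : ∀ a ∈ P, a * u = 0 := fun a ha => hann _ fun x => by
    have h1 : χ (f x) = u • x := LinearMap.congr_fun hu x
    rw [mul_smul, ← h1, ← map_smul, Module.mem_annihilator.1
      (CanonModLib.annihilator_le_annihilator_H (B ⧸ P) q n (by rwa [Ideal.annihilator_quotient])) (f x), map_zero]
  let L := Localization.AtPrime q
  let G : ℕ → Ideal B := fun k => Ideal.comap (algebraMap B L) ((q ^ k).map (algebraMap B L))
  have huG : ∀ k, u ∈ G k := fun k => by
    by_contra hk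
    obtain ⟨χ', hχ'⟩ := exists_dual_ne_zero hg (x := (Submodule.Quotient.mk u : B ⧸ G k))
      (fun h => hk ((Submodule.Quotient.mk_eq_zero _).1 h))
    have hG : powTors (maximalIdeal B) (B ⧸ G k) = ⊥ := by
      rw [eq_bot_iff]
      intro x hx
      obtain ⟨b, rfl⟩ := Submodule.Quotient.mk_surjective _ x
      obtain ⟨i, hi⟩ := mem_powTors_iff.1 hx
      obtain ⟨s, hsm, hsq⟩ := SetLike.not_le_iff_exists.1 (fun h : maximalIdeal B ≤ q => hq (le_antisymm hqle h))
      have h1 := hi (s ^ i) (Ideal.pow_mem_pow hsm i)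
      rw [← Submodule.Quotient.mk_smul, Submodule.Quotient.mk_eq_zero, smul_eq_mul, Ideal.mem_comap, map_mul] at h1
      rw [Submodule.mem_bot, Submodule.Quotient.mk_eq_zero, Ideal.mem_comap]
      have hunit : IsUnit (algebraMap B L (s ^ i)) :=
        IsLocalization.map_units L (⟨s ^ i, fun h => hsq (Ideal.IsPrime.mem_of_pow_mem ‹_› i h)⟩ : q.primeCompl)
      exact (Ideal.unit_mul_mem_iff_mem _ hunit).1 h1
    refine hχ' ?_
    rw [show (Submodule.Quotient.mk u : B ⧸ G k) = u • Submodule.Quotient.mk (1 : B) by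
      rw [← Submodule.Quotient.mk_smul, smul_eq_mul, mul_one], map_smul]
    refine hker _ (cmp_eq_zero_of_killed hn hn0 hqle k Ideal.le_comap_map hG _ fun a ha => ?_)
    rw [← map_smul, ← Submodule.Quotient.mk_smul, smul_eq_mul, mul_one, (Submodule.Quotient.mk_eq_zero _).2 ha, map_zero]
  have hloc : algebraMap B L u = 0 := by
    have h1 : algebraMap B L u ∈ ⨅ i : ℕ, maximalIdeal L ^ i := Submodule.mem_iInf _ |>.2 fun i => by
      rw [← Localization.AtPrime.map_eq_maximalIdeal, ← Ideal.map_pow]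
      exact Ideal.mem_comap.1 (huG i)
    haveI : IsNoetherianRing L := IsLocalization.isNoetherianRing q.primeCompl L inferInstance
    rwa [Ideal.iInf_pow_eq_bot_of_isLocalRing _ (maximalIdeal.isMaximal L).ne_top] at h1
  obtain ⟨⟨s, hs⟩, hsu⟩ := (IsLocalization.map_eq_zero_iff q.primeCompl L u).1 hloc
  by_contra hu0
  obtain ⟨Q, hQ, hle⟩ := exists_le_isAssociatedPrime_of_isNoetherianRing B u hu0
  haveI := hQ.isPrime
  have hmem : ∀ a, a * u = 0 → a ∈ Q := fun a ha => hle (by
    rw [Submodule.mem_colon_singleton, Submodule.mem_bot, smul_eq_mul, ha])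
  have hCM : LocCoh.IsCohenMacaulayModule B B := by
    show Module.supportDim B B = _
    rw [Module.supportDim_self_eq_ringKrullDim, hn, (GorenLib.gorenstein_of_dim hn).1]
    rfl
  have hQd : ringKrullDim (B ⧸ Q) = n := by
    rw [DepthLib.ringKrullDim_quotient_eq_of_mem_associatedPrimes hCM hQ, Module.supportDim_self_eq_ringKrullDim, hn]
  have hQP : Q ≤ P := CanonModLib.le_of_le_of_coheight B (n := n) ((Module.supportDim_self_eq_ringKrullDim (R := B)).trans hn)
    (fun a ha => by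
      have := Module.mem_annihilator.1 ha 1
      rw [smul_eq_mul, mul_one] at this
      rw [this]; exact P.zero_mem) (fun a ha => hmem a (hPu a ha)) hQd
  exact hs (hPq (hQP (hmem s hsu)))

end Gorenstein

end Groth.Agent.HLV27
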