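import Groth.Agent.Lib.HLV27.Core
import Groth.Agent.Lib.Goren.SopHull27
import Groth.Agent.Lib.Goren.CMHeight27
import Groth.Agent.Lib.Cohen.Structure
import Groth.Agent.Lib.ArtFun.PS
import Groth.Agent.Lib.CplLocH7.Basic
import Groth.Agent.Lib.LocCoh.Restrict
import Groth.Agent.Lib.LocCoh.TopVanish
import Groth.Agent.Lib.CanonMod.Completion27
import Groth.Agent.Lib.Compl.Dim
import Groth.Agent.S0342

/-!
# The Hartshorne–Lichtenbaum vanishing theorem
-/

set_option autoImplicit false
universe u

open CategoryTheory IsLocalRing TensorProduct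
open Groth.Agent.LocCohLib Groth.Agent.InjHullLib

noncomputable section

namespace Groth.Agent.HLV27

/-- A complete Noetherian local ring is a quotient of a complete regular local ring. -/
theorem exists_complete_regular_surjection (A : Type u) [CommRing A] [IsLocalRing A] [IsNoetherianRing A]
    [IsAdicComplete (maximalIdeal A) A] :
    ∃ (R : Type u) (_ : CommRing R) (_ : IsRegularLocalRing R) (f : R →+* A),
      IsAdicComplete (maximalIdeal R) R ∧ Function.Surjective f := by
  obtain ⟨Λ, i1, i2, hc, g, hg⟩ : ∃ (Λ : Type u) (_ : CommRing Λ) (_ : IsRegularLocalRing Λ)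
      (_ : IsAdicComplete (maximalIdeal Λ) Λ) (f : Λ →+* A), Function.Surjective ((residue A).comp f) := by
    have hI : (Cohen.Filt.ofAdic (maximalIdeal A)).I 1 = RingHom.ker (residue A) := by
      rw [ker_residue]
      exact pow_one _
    obtain ⟨q, hq⟩ := CharP.exists (ResidueField A)
    rcases CharP.char_is_prime_or_zero (ResidueField A) q with hp | hp
    · haveI : Fact q.Prime := ⟨hp⟩
      obtain ⟨Λ, i1, i2, f, ⟨i3, i4, hc, -⟩, -, -, hs⟩ :=
        Cohen.exists_cohen_map (p := q) _ (residue A) residue_surjective hI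
      exact ⟨Λ, i1, inferInstance, hc, f, hs⟩
    · subst hp
      haveI : CharZero (ResidueField A) := CharP.charP_to_charZero _
      obtain ⟨g, hg⟩ := Cohen.exists_lift_charZero _ (residue A) residue_surjective hI
      refine ⟨ResidueField A, inferInstance, inferInstance, ?_, g, fun x => ⟨x, hg x⟩⟩
      rw [show maximalIdeal (ResidueField A) = ⊥ from IsLocalRing.maximalIdeal_eq_bot]
      infer_instance
  letI : Algebra Λ A := g.toAlgebra
  obtain ⟨n, z, hz⟩ := Submodule.fg_iff_exists_fin_generating_family.mp (IsNoetherian.noetherian (maximalIdeal A))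
  obtain ⟨ψ, hψ⟩ := H2Alg.PSHom.exists_algHom (A := Λ) (maximalIdeal A) z fun i => hz ▸ Submodule.subset_span ⟨i, rfl⟩
  have hV : (H2Alg.PSHom.V n Λ).map ψ = maximalIdeal A := by
    rw [H2Alg.PSHom.V, Ideal.map_span, ← Set.range_comp,
      show (ψ ∘ fun i => MvPowerSeries.X i) = z from funext hψ]
    exact hz
  refine ⟨MvPowerSeries (Fin n) Λ, inferInstance, Cohen.isRegularLocalRing_mvPowerSeries Λ n, ψ.toRingHom,
    ArtFunLib.isAdicComplete_mvPowerSeries, H2Alg.PSHom.surjective ψ (maximalIdeal A) hV fun t => ?_⟩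
  obtain ⟨a, ha⟩ := hg (residue A t)
  refine ⟨a, ?_⟩
  rw [← residue_eq_zero_iff, map_sub, sub_eq_zero]
  exact ha.symm

variable {R : Type u} [CommRing R] [IsLocalRing R] [IsNoetherianRing R]

/-- A domain quotient of a complete local ring is a quotient of a complete Gorenstein ring of the same dimension. -/
theorem exists_gorenstein_cover [IsAdicComplete (maximalIdeal R) R] (p : Ideal R) [p.IsPrime] {n : ℕ}
    (hp : ringKrullDim (R ⧸ p) = n) :
    ∃ (B : Type u) (_ : CommRing B) (_ : LocCoh.IsGorensteinLocalRing B) (g : B →+* R ⧸ p),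
      IsAdicComplete (maximalIdeal B) B ∧ ringKrullDim B = n ∧ Function.Surjective g := by
  obtain ⟨S, i1, i2, f, hc, hf⟩ := exists_complete_regular_surjection R
  haveI := hc
  haveI : LocCoh.IsGorensteinLocalRing S := Groth.Agent.S0342.result S
  haveI : LocCoh.IsCohenMacaulayLocalRing S := DepthLib.isCohenMacaulayLocalRing_of_isRegularLocalRing
  let g₀ : S →+* R ⧸ p := (Ideal.Quotient.mk p).comp f
  have hg₀ : Function.Surjective g₀ := Ideal.Quotient.mk_surjective.comp hf
  let P := RingHom.ker g₀
  haveI : P.IsPrime := RingHom.ker_isPrime _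
  obtain ⟨c, hc'⟩ := ENat.ne_top_iff_exists.1 (Ideal.height_lt_top (Ideal.IsPrime.ne_top (I := P) inferInstance)).ne
  have hPne : P • (⊤ : Submodule S S) ≠ ⊤ := by
    rw [smul_eq_mul, Ideal.mul_top]; exact Ideal.IsPrime.ne_top ‹_›
  obtain ⟨l, hl, hlP, hlc⟩ := DepthLib.exists_isWeaklyRegular_of_le_idealDepth hPne (n := c)
    (by rw [GorenLib.idealDepth_eq_height P (Ideal.IsPrime.ne_top ‹_›), hc'])
  have hlm : ∀ y ∈ l, y ∈ maximalIdeal S := fun y hy => le_maximalIdeal (Ideal.IsPrime.ne_top ‹_›) (hlP y hy)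
  haveI hG := GorenLib.gorenstein_quotient_ofList l.length S l rfl hl hlm
  have hle : Ideal.ofList l ≤ P := Ideal.span_le.2 fun y hy => hlP y hy
  refine ⟨S ⧸ Ideal.ofList l, inferInstance, hG, Ideal.Quotient.lift _ g₀ fun a ha => hle ha, ?_, ?_,
    Ideal.Quotient.lift_surjective_of_surjective _ _ hg₀⟩
  · have h : IsAdicComplete (maximalIdeal S) (S ⧸ Ideal.ofList l) := Compl.isAdicComplete_of_finite _ _
    rw [← IsLocalRing.map_maximalIdeal_of_surjective (Ideal.Quotient.mk (Ideal.ofList l)) Ideal.Quotient.mk_surjective]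
    exact (IsAdicComplete.map_algebraMap_iff _ _).2 h
  · have h1 := GorenLib.ringKrullDim_eq_quotient_add_height P (Ideal.IsPrime.ne_top ‹_›)
    rw [ringKrullDim_eq_of_ringEquiv (RingHom.quotientKerEquivOfSurjective hg₀), hp, ← hc'] at h1
    have h2 := ringKrullDim_add_length_eq_ringKrullDim_of_isRegular l
      (DepthLib.isRegular_of_isWeaklyRegular (I := P) hl hlP hPne)
    rw [hlc, h1] at h2
    have h2' : ringKrullDim (S ⧸ Ideal.ofList l) + (c : WithBot ℕ∞) = (n : WithBot ℕ∞) + (c : WithBot ℕ∞) := h2
    exact le_antisymm (DepthLib.withBot_add_coe_cancel c h2'.le) (DepthLib.withBot_add_coe_cancel c h2'.ge)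

theorem subsingleton_H_quotient_prime [IsAdicComplete (maximalIdeal R) R] {p q : Ideal R} [p.IsPrime] [q.IsPrime]
    (hpq : p ≤ q) (hq : q ≠ maximalIdeal R) {n : ℕ} (hp : ringKrullDim (R ⧸ p) = n) :
    Subsingleton (LocCoh.H q n (R ⧸ p)) := by
  obtain ⟨B, i1, i2, g, hc, hn, hg⟩ := exists_gorenstein_cover p hp
  haveI := hc
  letI : Algebra B (R ⧸ p) := g.toAlgebra
  let qb := q.map (algebraMap R (R ⧸ p))
  haveI : qb.IsPrime := Ideal.map_isPrime_of_surjective Ideal.Quotient.mk_surjective (by
    rw [Ideal.mk_ker]; exact hpq)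
  let qB := qb.comap (algebraMap B (R ⧸ p))
  have hqB : qB.map (algebraMap B (R ⧸ p)) = qb := Ideal.map_comap_of_surjective _ hg qb
  let l : (B ⧸ RingHom.ker g) ≃ₗ[B] R ⧸ p :=
    Submodule.quotEquivOfEq _ _ rfl ≪≫ₗ (Algebra.linearMap B (R ⧸ p)).quotKerEquivOfSurjective hg
  haveI : (RingHom.ker g).IsPrime := RingHom.ker_isPrime _
  haveI := subsingleton_H_quotient (B := B) hn (RingHom.ker g) qB
    (fun b hb => show g b ∈ qb by rw [RingHom.mem_ker.1 hb]; exact zero_mem _)
    (fun h => hq (le_antisymm (le_maximalIdeal (Ideal.IsPrime.ne_top ‹_›)) fun x hx => by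
      obtain ⟨b, hb⟩ := hg (Ideal.Quotient.mk p x)
      have hbm : b ∈ maximalIdeal B := by
        rw [mem_maximalIdeal, mem_nonunits_iff]
        intro hu
        have h1 : IsUnit (Ideal.Quotient.mk p x) := hb ▸ hu.map g
        haveI : IsLocalHom (Ideal.Quotient.mk p) := IsLocalHom.of_surjective _ Ideal.Quotient.mk_surjective
        exact (mem_maximalIdeal x).1 hx (isUnit_of_map_unit _ _ h1)
      have h2 : g b ∈ qb := (h ▸ hbm : b ∈ qB)
      rw [hb] at h2
      obtain ⟨x', hx', hxx⟩ := (Ideal.mem_map_iff_of_surjective _ Ideal.Quotient.mk_surjective).1 h2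
      have h3 : x' - x ∈ p := (Ideal.Quotient.mk_eq_mk_iff_sub_mem _ _).1 hxx
      simpa using q.sub_mem hx' (hpq h3)))
    ((ringKrullDim_eq_of_ringEquiv (RingHom.quotientKerEquivOfSurjective hg)).trans hp)
  haveI : Subsingleton (LocCoh.H qB n (R ⧸ p)) := (hcongr qB n l).symm.toEquiv.subsingleton
  obtain ⟨φ, -⟩ := exists_restrictScalars_addEquiv (R ⧸ p) qB n (R ⧸ p)
  obtain ⟨φ', -⟩ := exists_restrictScalars_addEquiv (R ⧸ p) q n (R ⧸ p)
  haveI : Subsingleton (LocCoh.H (qB.map (algebraMap B (R ⧸ p))) n (R ⧸ p)) := φ.toEquiv.subsingleton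
  rw [hqB] at this
  exact φ'.symm.toEquiv.subsingleton

/-- The primes obstructing vanishing in the top degree. -/
theorem subsingleton_H_top [IsAdicComplete (maximalIdeal R) R] (I : Ideal R) (M : Type u) [AddCommGroup M] [Module R M]
    [Module.Finite R M] (d : ℕ) (hd : Module.supportDim R M ≤ d)
    (h : ∀ p : PrimeSpectrum R, p ∈ Module.support R M → ringKrullDim (R ⧸ p.asIdeal) = d →
      ∃ q : PrimeSpectrum R, I ⊔ p.asIdeal ≤ q.asIdeal ∧ q.asIdeal ≠ maximalIdeal R) :
    Subsingleton (LocCoh.H I d M) := by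
  suffices key : ∀ N : Type u, ∀ [AddCommGroup N] [Module R N] [Module.Finite R N],
      Module.support R N ⊆ Module.support R M → Subsingleton (LocCoh.H I d N) from key M subset_rfl
  intro N _ _ hNf
  induction hNf using IsNoetherianRing.induction_on_isQuotientEquivQuotientPrime R with
  | subsingleton N =>
    intro _
    refine subsingleton_of_supportDim_lt I N d ?_
    rw [Module.supportDim_eq_bot_of_subsingleton]
    exact WithBot.bot_lt_coe _
  | quotient N p e =>
    intro hsupp
    have hpM : p ∈ Module.support R M := hsupp (by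
      rw [e.support_eq, Module.support_eq_zeroLocus, Ideal.annihilator_quotient]
      exact fun _ h => h)
    have hle : ringKrullDim (R ⧸ p.asIdeal) ≤ d :=
      (DepthLib.ringKrullDim_quotient_le_supportDim (M := M) (p := p.asIdeal) hpM).trans hd
    haveI : Subsingleton (LocCoh.H I d (R ⧸ p.asIdeal)) := by
      rcases hle.eq_or_lt with heq | hlt
      · obtain ⟨q, hq, hqm⟩ := h p hpM heq
        haveI := subsingleton_H_quotient_prime (p := p.asIdeal) (q := q.asIdeal) (le_sup_right.trans hq) hqm heq
        refine (surjective_cmpLE_of_local (R ⧸ p.asIdeal) d (le_sup_left.trans hq) fun r hIr hr => ?_).subsingleton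
        refine subsingleton_of_supportDim_lt _ _ _ ?_
        by_cases hpr : p.asIdeal ≤ r.asIdeal
        · have hm : ¬ maximalIdeal R ≤ r.asIdeal := fun hmr => hr ((le_maximalIdeal q.isPrime.ne_top).trans hmr)
          obtain ⟨a, ha⟩ := DepthLib.exists_ringKrullDim_quotient_eq_natCast r.asIdeal r.isPrime.ne_top
          have h1 := DepthLib.supportDim_localizedModule_add_le (M := R ⧸ p.asIdeal) r.asIdeal (by
            rw [Module.support_eq_zeroLocus, Ideal.annihilator_quotient]; exact hpr)
          rw [Module.supportDim_quotient_eq_ringKrullDim, heq, ha] at h1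
          have ha0 : a ≠ 0 := by
            rintro rfl
            refine hm ?_
            haveI : Ring.KrullDimLE 0 (R ⧸ r.asIdeal) := Ring.krullDimLE_iff.2 (le_of_eq ha)
            haveI : r.asIdeal.IsMaximal := Ideal.Quotient.maximal_of_isField _
              (Ring.KrullDimLE.isField_of_isDomain)
            exact (eq_maximalIdeal ‹r.asIdeal.IsMaximal›).ge
          refine lt_of_lt_of_le ?_ le_rfl
          by_contra hge
          push Not at hge
          have h2 : (d : WithBot ℕ∞) + (a : WithBot ℕ∞) ≤ d := (add_le_add hge le_rfl).trans h1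
          have h3 : d + a ≤ d := by exact_mod_cast h2
          omega
        · haveI : Subsingleton (LocalizedModule r.asIdeal.primeCompl (R ⧸ p.asIdeal)) := by
            rw [← Module.notMem_support_iff]
            rw [Module.support_eq_zeroLocus, Ideal.annihilator_quotient]
            exact hpr
          rw [Module.supportDim_eq_bot_of_subsingleton]
          exact WithBot.bot_lt_coe _
      · exact subsingleton_of_supportDim_lt I _ d (by rwa [Module.supportDim_quotient_eq_ringKrullDim])
    exact (hcongr I d e).toEquiv.subsingleton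
  | exact N₁ N₂ N₃ f g hf hg hfg h₁ h₃ =>
    intro hsupp
    rw [Module.support_of_exact hfg hf hg] at hsupp
    haveI := h₁ (Set.subset_union_left.trans hsupp)
    haveI := h₃ (Set.subset_union_right.trans hsupp)
    refine subsingleton_of_forall_eq 0 fun x => ?_
    obtain ⟨y, rfl⟩ := (exact_map_map I d (shortExact_mk f g hf hg hfg) x).1
      ((inferInstance : Subsingleton (LocCoh.H I d N₃)).elim _ _)
    exact (congrArg _ ((inferInstance : Subsingleton (LocCoh.H I d N₁)).elim y 0)).trans (map_zero _)

/-- **Hartshorne–Lichtenbaum vanishing.** -/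
theorem vanishing (I : Ideal R) (d : ℕ) (hd : ringKrullDim R = d)
    (h : ∀ p ∈ minimalPrimes (AdicCompletion (maximalIdeal R) R),
      ringKrullDim (AdicCompletion (maximalIdeal R) R ⧸ p) = d →
      1 ≤ ringKrullDim (AdicCompletion (maximalIdeal R) R ⧸
        (I.map (algebraMap R (AdicCompletion (maximalIdeal R) R)) ⊔ p)))
    (M : Type u) [AddCommGroup M] [Module R M] (i : ℕ) (hi : d ≤ i) : Subsingleton (LocCoh.H I i M) := by
  rcases hi.eq_or_lt with rfl | hlt
  swap
  · exact cdLE_of_ringKrullDim_le I hd.le M i hlt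
  haveI : Subsingleton (LocCoh.H I d R) := by
    let R' := AdicCompletion (maximalIdeal R) R
    haveI : Module.FaithfullyFlat R R' := CplLocH7.faithfullyFlat_cpl R
    haveI : IsNoetherianRing R' := CplLocH7.isNoetherianRing_cpl R
    have hd' : ringKrullDim R' = d := (Compl.ringKrullDim_maximalIdeal_adicCompletion R).trans hd
    haveI : IsAdicComplete (maximalIdeal R') R' := inferInstance
    haveI : Subsingleton (LocCoh.H (I.map (algebraMap R R')) d R') := by
      refine subsingleton_H_top _ R' d (le_of_eq ((Module.supportDim_self_eq_ringKrullDim (R := R')).trans hd'))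
        fun p _ hpd => ?_
      have hmin : p.asIdeal ∈ minimalPrimes R' := ⟨⟨p.isPrime, bot_le⟩, fun r hr hrp => by
        haveI := hr.1
        refine CanonModLib.le_of_le_of_coheight R' (n := d) ((Module.supportDim_self_eq_ringKrullDim (R := R')).trans hd')
          (fun a ha => ?_) hrp hpd
        have := Module.mem_annihilator.1 ha 1
        rw [smul_eq_mul, mul_one] at this
        rw [this]; exact zero_mem _⟩
      obtain ⟨q, hq, hq1⟩ := exists_prime_ge_dim_one (lt_of_lt_of_le zero_lt_one (h p.asIdeal hmin hpd))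
      refine ⟨q, hq, fun hqm => ?_⟩
      rw [hqm] at hq1
      have h0 : ringKrullDim (R' ⧸ maximalIdeal R') = 0 := ringKrullDim_eq_zero_of_isField
        ((Ideal.Quotient.maximal_ideal_iff_isField_quotient _).1 inferInstance)
      rw [h0] at hq1
      exact zero_ne_one hq1
    obtain ⟨e⟩ := nonempty_baseChange_H (R' := R') I d R
    haveI : Subsingleton (R' ⊗[R] LocCoh.H I d R) :=
      (e.trans (hcongr _ d (TensorProduct.AlgebraTensorModule.rid R R' R'))).toEquiv.subsingleton
    exact Module.FaithfullyFlat.lTensor_reflects_triviality R R' _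
  exact (tensorTo_surjective (cdLE_of_ringKrullDim_le I hd.le) M).subsingleton

end Groth.Agent.HLV27
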