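import Groth.Agent.Lib.GRing12.Basic
import Groth.Agent.Lib.GRing6.RegOpen
import Groth.Agent.Lib.FlatDepth.RingFib
import Groth.Agent.Lib.UCat.Universal
import Groth.Agent.S0332
import Groth.Agent.S0379
import Groth.Agent.S0328
import Groth.Agent.S1802
import Groth.Agent.Lib.Compl.Noetherian
import Groth.Agent.Lib.HLV27.Connect

/-!
# Cohomological dimension in excellent normal local rings
-/

set_option autoImplicit false
universe u

open IsLocalRing

noncomputable section

namespace Groth.Agent.HLV27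

theorem isNormalRing_of_isRegularRing (R : Type u) [CommRing R] [IsRegularRing R] : EGA4.IsNormalRing R := by
  refine SerreCrit.normal_iff.2 ⟨?_, (FlatDepth.cohenMacaulayRing_iff R).1 (UCat.isCM_of_regular R) 2⟩
  intro p _
  intros
  infer_instance

variable (A : Type u) [CommRing A] [IsDomain A] [IsLocalRing A] [IsNoetherianRing A] [IsIntegrallyClosed A]

theorem isDomain_completion (hA : CAlg.IsGRing A) : IsDomain (AdicCompletion (maximalIdeal A) A) := by
  let L := Localization.AtPrime (maximalIdeal A)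
  let e : A ≃+* L := (IsLocalization.atUnits A (maximalIdeal A).primeCompl
    (fun x hx => by rw [IsUnit.mem_submonoid_iff]; simpa using hx)).toRingEquiv
  have h := GRing12.isRegularHom_cpl_of_equiv L A e (hA.2 (maximalIdeal A))
  haveI : Module.Flat A (EGA4.Cpl A) := h.1
  haveI : IsNoetherianRing (EGA4.Cpl A) := (haveI : IsNoetherianRing (A ⧸ maximalIdeal A) := isNoetherianRing_of_surjective _ _ (Ideal.Quotient.mk (maximalIdeal A)) Ideal.Quotient.mk_surjective; Compl.isNoetherianRing_adicCompletion (maximalIdeal A) (IsNoetherian.noetherian _))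
  have hn : EGA4.IsNormalRing (EGA4.Cpl A) := FlatDepth.normal_of_flat_fibres
    ((FlatDepth.normal_localRing_iff A).2 ⟨inferInstance, inferInstance⟩) fun p _ =>
      haveI := GRing6.regular_fibre_of_isRegularHom A (EGA4.Cpl A) h p
      isNormalRing_of_isRegularRing _
  exact ((FlatDepth.normal_localRing_iff (EGA4.Cpl A)).1 hn).1

theorem cd_lt_dim (hA : CAlg.IsGRing A) (I : Ideal A) (hI : (1 : WithBot ℕ∞) ≤ ringKrullDim (A ⧸ I))
    (d : ℕ) (hd : ringKrullDim A = d) (M : Type u) [AddCommGroup M] [Module A M] (i : ℕ) (hi : d ≤ i) :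
    Subsingleton (LocCoh.H I i M) := by
  let C := AdicCompletion (maximalIdeal A) A
  haveI : IsDomain C := isDomain_completion A hA
  refine S0332.result A I d hd (fun p hp _ => ?_) M i hi
  rw [IsDomain.minimalPrimes_eq_singleton_bot, Set.mem_singleton_iff] at hp
  subst hp
  rw [sup_bot_eq]
  let J := I.map (algebraMap A C)
  haveI : IsNoetherianRing C := (haveI : IsNoetherianRing (A ⧸ maximalIdeal A) := isNoetherianRing_of_surjective _ _ (Ideal.Quotient.mk (maximalIdeal A)) Ideal.Quotient.mk_surjective; Compl.isNoetherianRing_adicCompletion (maximalIdeal A) (IsNoetherian.noetherian _))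
  haveI : Module.Flat A C := AdicCompletion.flat_of_isNoetherian _
  haveI : IsLocalHom (algebraMap A C) := inferInstance
  haveI : Module.FaithfullyFlat A C := Module.FaithfullyFlat.of_flat_of_isLocalHom
  have hItop : I ≠ ⊤ := fun h => by
    haveI : Subsingleton (A ⧸ I) := Ideal.Quotient.subsingleton_iff.2 h
    rw [ringKrullDim_eq_bot_of_subsingleton] at hI
    exact not_lt.2 hI (WithBot.bot_lt_coe _)
  have hJ : J.comap (algebraMap A C) = I := Ideal.comap_map_eq_self_of_faithfullyFlat I
  haveI : Nontrivial (C ⧸ J) := Ideal.Quotient.nontrivial_iff.2 fun h => hItop (by rw [← hJ, h, Ideal.comap_top])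
  by_contra hlt
  have h0 : ringKrullDim (C ⧸ J) ≤ 0 := by
    obtain ⟨k, hk⟩ := exists_dim_nat (R := C) (J := J) (le_maximalIdeal (Ideal.Quotient.nontrivial_iff.1 inferInstance))
    rw [hk] at hlt ⊢
    exact_mod_cast Nat.lt_one_iff.1 (not_le.1 fun h => hlt (by exact_mod_cast h)) |>.le
  haveI : Ring.KrullDimLE 0 (C ⧸ J) := Ring.krullDimLE_iff.2 h0
  haveI : Ring.KrullDimLE 0 (A ⧸ I) := Ring.krullDimLE_zero_iff.2 fun P hP => by
    haveI := hP
    obtain ⟨⟨Q, hQ⟩, hQP⟩ := PrimeSpectrum.comap_surjective_of_faithfullyFlat (A := A) (B := C)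
      ⟨P.comap (Ideal.Quotient.mk I), inferInstance⟩
    have hQP' : Q.comap (algebraMap A C) = P.comap (Ideal.Quotient.mk I) := congrArg PrimeSpectrum.asIdeal hQP
    have hIQ : J ≤ Q := Ideal.map_le_iff_le_comap.2 (hQP'.symm ▸ fun x hx => by
      rw [Ideal.mem_comap, Ideal.Quotient.eq_zero_iff_mem.2 hx]; exact P.zero_mem)
    haveI : (Q.map (Ideal.Quotient.mk J)).IsPrime := Ideal.isPrime_map_quotientMk_of_isPrime hIQ
    haveI : (Q.map (Ideal.Quotient.mk J)).IsMaximal := Ideal.IsPrime.isMaximal' inferInstance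
    haveI : Q.IsMaximal := by
      have := Ideal.comap_isMaximal_of_surjective (Ideal.Quotient.mk J) Ideal.Quotient.mk_surjective (K := Q.map (Ideal.Quotient.mk J))
      rwa [Ideal.comap_map_of_surjective _ Ideal.Quotient.mk_surjective, ← RingHom.ker_eq_comap_bot, Ideal.mk_ker, sup_eq_left.2 hIQ] at this
    have hmax : (maximalIdeal C).comap (algebraMap A C) = maximalIdeal A :=
      ((IsLocalRing.local_hom_TFAE (algebraMap A C)).out 0 4).1 ‹_›
    have hQm : Q = maximalIdeal C := IsLocalRing.eq_maximalIdeal ‹Q.IsMaximal›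
    rw [hQm, hmax] at hQP'
    rw [← Ideal.map_comap_of_surjective (Ideal.Quotient.mk I) Ideal.Quotient.mk_surjective P, ← hQP']
    exact (Ideal.map_eq_top_or_isMaximal_of_surjective _ Ideal.Quotient.mk_surjective (maximalIdeal.isMaximal A)).resolve_left
      fun h => hP.ne_top (by rwa [hQP', Ideal.map_comap_of_surjective (Ideal.Quotient.mk I) Ideal.Quotient.mk_surjective P] at h)
  exact not_lt.2 (hI.trans (Ring.krullDimLE_iff.1 ‹Ring.KrullDimLE 0 (A ⧸ I)›)) (by norm_num)

open AlgebraicGeometry in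
theorem isAffine_punctured (hA : CAlg.IsGRing A) (I : Ideal A) (hI : (1 : WithBot ℕ∞) ≤ ringKrullDim (A ⧸ I))
    (h2 : ringKrullDim A = 2) : IsAffine (↑(LocCoh.puncturedOpen A I) : Scheme.{u}) := by
  by_cases hI0 : I = ⊥
  · subst hI0
    haveI : IsEmpty (↑(LocCoh.puncturedOpen A (⊥ : Ideal A)) : Scheme.{u}) :=
      ⟨fun x => x.2 (by
        show x.1 ∈ PrimeSpectrum.zeroLocus ((⊥ : Ideal A) : Set A)
        exact fun a ha => by rw [(Submodule.mem_bot A).1 ha]; exact Submodule.zero_mem _)⟩
    infer_instance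
  have h1 : LocCoh.CdLE A I 1 := fun M _ _ i hi => cd_lt_dim A hA I hI 2 (by rw [h2]; rfl) M i hi
  refine (S1802.result A I h1 fun h0 => ?_).2
  have hItop : I ≠ ⊤ := fun h => by
    haveI : Subsingleton (A ⧸ I) := Ideal.Quotient.subsingleton_iff.2 h
    rw [ringKrullDim_eq_bot_of_subsingleton] at hI
    exact not_lt.2 hI (WithBot.bot_lt_coe _)
  obtain ⟨P, hP⟩ := Ideal.nonempty_minimalPrimes hItop
  haveI := hP.1.1
  let L := Localization.AtPrime P
  have hb : LocCoh.CdLE L (I.map (algebraMap A L)) 0 := (S0379.result A L I 0).1 h0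
  have hmax : ((⊥ : Ideal L) ⊔ I.map (algebraMap A L)).radical = maximalIdeal L := by
    rw [bot_sup_eq]
    exact (IsLocalization.AtPrime.radical_map_of_mem_minimalPrimes L P I hP).trans Localization.AtPrime.map_eq_maximalIdeal
  obtain ⟨k, hk⟩ := RegLoc.exists_dim_eq_nat (R := L ⧸ (⊥ : Ideal L))
  rcases Nat.eq_zero_or_pos k with rfl | hk1
  · refine hI0 (eq_bot_iff.2 fun x hx => ?_)
    have hP0 : P = ⊥ := by
      rw [ringKrullDim_eq_of_ringEquiv (RingEquiv.quotientBot L), IsLocalization.AtPrime.ringKrullDim_eq_height P L] at hk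
      exact Ideal.height_eq_zero_iff_eq_bot.1 (WithBot.coe_inj.1 hk)
    exact hP0 ▸ hP.1.2 hx
  · have hne : I.map (algebraMap A L) ≠ ⊤ := fun h =>
      (maximalIdeal.isMaximal L).ne_top (top_le_iff.1 (h ▸ Ideal.map_le_iff_le_comap.2
        (hP.1.2.trans (Localization.AtPrime.under_maximalIdeal (I := P)).ge)))
    haveI : (⊥ : Ideal L).IsPrime := Ideal.isPrime_bot
    refine S0328.result L (I.map (algebraMap A L)) hne ⊥ hmax k hk hk1 fun M _ _ i hi => hb M i (by omega)

end Groth.Agent.HLV27
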